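import Groth.Agent.Lib.StackGal23.Points
import Groth.Agent.Lib.FFMass16.Count
import Groth.Prelude.Def_StkCnt

/-!
# Rational objects of a quotient stack hov a finite field through Galois cocycles
-/

set_option autoImplicit false
set_option linter.style.haveILetI false
set_option linter.unusedSectionVars false
set_option backward.isDefEq.respectTransparency false
set_option backward.isDefEq.respectTransparency.types false
universe u

open CategoryTheory MonoidalCategory CartesianMonoidalCategory MonObj GrpObj AlgebraicGeometry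
open Groth.Agent.AlgGrpBasic19 (act_mul act_one)

namespace Groth.Agent.StackGal23

variable {k : Type u} [Field k] [Finite k] {k' : Type u} [Field k'] [Algebra k k'] [Finite k']
  {kb : Type u} [Field kb] [Algebra k kb] [Algebra k' kb] [IsScalarTower k k' kb] [IsAlgClosure k' kb]
  {G X : Over (Spec (CommRingCat.of k))} [GrpObj G] [IsAffineHom G.hom] [LocallyOfFiniteType G.hom]
  [LocallyOfFiniteType X.hom] {aX : AlgGrp.Action G X}

variable (k' aX) in
/-- Objects hov the base field. -/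
abbrev Obj : Type (u + 1) := (AlgSt.QuotSt Scheme.etalePrecoverage G aX).p.Fiber (SGA7.pt (K := k) k')

/-- The torsor of an object. -/
noncomputable abbrev tors (A : Obj k' aX) : Tors aX (SGA7.pt (K := k) k') := Tors.ofObj A.1 A.2

variable (kb) in
/-- A cocycle identity for points with values in the algebraic closure. -/
def IsCoc (z : (kb ≃ₐ[k'] kb) → (SGA7.pt (K := k) kb ⟶ G)) : Prop :=
  (∀ σ τ, z (σ * τ) = z σ * (galPt k k' kb σ ≫ z τ)) ∧ IsLocallyConstant z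

/-- A point of the torsor realising a cocycle and a point of the target. -/
structure Rep (A : Obj k' aX) (t : SGA7.pt (K := k) kb ⟶ A.1.P)
    (z : (kb ≃ₐ[k'] kb) → (SGA7.pt (K := k) kb ⟶ G)) (x : SGA7.pt (K := k) kb ⟶ X) : Prop where
  hov : t ≫ (tors A).m = cov k k' kb
  coc : ∀ σ, lift (z σ) (galPt k k' kb σ ≫ t) ≫ A.1.act.act = t
  img : t ≫ A.1.φ = x

theorem Rep.fix {A : Obj k' aX} {t : SGA7.pt (K := k) kb ⟶ A.1.P}
    {z : (kb ≃ₐ[k'] kb) → (SGA7.pt (K := k) kb ⟶ G)} {x : SGA7.pt (K := k) kb ⟶ X} (h : Rep A t z x)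
    (σ : kb ≃ₐ[k'] kb) : lift (z σ) (galPt k k' kb σ ≫ x) ≫ aX.act = x := by
  rw [← h.img, ← Category.assoc (galPt k k' kb σ)]
  exact ((tors A).act_φ (z σ) _).symm.trans (congrArg (· ≫ A.1.φ) (h.coc σ))

/-- A point of a torsor defined hov a finite extension. -/
theorem exists_factor_pt (A : Obj k' aX) (t : SGA7.pt (K := k) kb ⟶ A.1.P) (ht : t ≫ (tors A).m = cov k k' kb) :
    ∃ L : IntermediateField k' kb, FiniteDimensional k' L ∧
      ∃ tL : SGA7.pt (K := k) L ⟶ A.1.P, incl k k' kb L ≫ tL = t := by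
  obtain ⟨R, hR, hs⟩ := A.1.loc
  haveI : Nonempty ↥A.1.base.left := by
    rw [show A.1.base = SGA7.pt (K := k) k' from A.2]
    exact inferInstanceAs (Nonempty (PrimeSpectrum k'))
  obtain ⟨b⟩ := ‹Nonempty ↥A.1.base.left›
  obtain ⟨_, _, hh, c, -⟩ := hR.1 b
  rcases hh with @⟨S', f, hf⟩
  haveI : Etale f := hR.2 hf
  obtain ⟨s, hs⟩ := hs f hf
  let g : S' ⟶ Spec (CommRingCat.of k') := f ≫ (eqToHom A.2).left
  haveI : IsIso (eqToHom A.2).left := inferInstanceAs (IsIso ((Over.forget _).map (eqToHom A.2)))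
  haveI : LocallyOfFiniteType g := inferInstanceAs (LocallyOfFiniteType (f ≫ (eqToHom A.2).left))
  haveI : Nonempty ↥S' := ⟨c⟩
  haveI : Surjective g := ⟨Function.surjective_to_subsingleton (β := PrimeSpectrum k') g.base⟩
  haveI := IsAlgClosure.isAlgClosed k' (K := kb)
  obtain ⟨p, hp⟩ := FinCondH13.lift_of_surjective g kb (Spec.map (CommRingCat.ofHom (algebraMap k' kb)))
  let W : Over (Spec (CommRingCat.of k)) := Over.mk (g ≫ (SGA7.pt (K := k) k').hom)
  haveI : LocallyOfFiniteType (SGA7.pt (K := k) k').hom := by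
    haveI : Module.Finite k k' := Module.Finite.of_finite
    exact (HasRingHomProperty.Spec_iff (P := @LocallyOfFiniteType)).2
      (RingHom.finiteType_algebraMap.2 inferInstance)
  haveI : LocallyOfFiniteType W.hom := inferInstanceAs (LocallyOfFiniteType (g ≫ (SGA7.pt (K := k) k').hom))
  have hs' : s ≫ A.1.π.left = f := hs
  let sW : W ⟶ A.1.P := Over.homMk s (by
    show s ≫ A.1.P.hom = (f ≫ (eqToHom A.2).left) ≫ (SGA7.pt (K := k) k').hom
    rw [Category.assoc, Over.w, ← hs', Category.assoc]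
    exact (congrArg (s ≫ ·) (Over.w A.1.π)).symm)
  let pW : SGA7.pt (K := k) kb ⟶ W := Over.homMk p (by
    show p ≫ g ≫ (SGA7.pt (K := k) k').hom = _
    rw [reassoc_of% hp]
    exact Over.w (cov k k' kb))
  have h₀ : (pW ≫ sW) ≫ (tors A).m = cov k k' kb := Over.OverMorphism.ext (by
    show (p ≫ s) ≫ (A.1.π.left ≫ (eqToHom A.2).left) = _
    rw [Category.assoc, reassoc_of% hs']
    exact hp)
  obtain ⟨L₁, hL₁, pL, hpL⟩ := exists_factor (k' := k') pW
  obtain ⟨L₂, hL₂, gL, hgL⟩ := exists_factor (k' := k') ((tors A).div t (pW ≫ sW) (ht.trans h₀.symm))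
  refine ⟨L₁ ⊔ L₂, inferInstance, lift (inclLE k k' kb le_sup_right ≫ gL)
    ((inclLE k k' kb le_sup_left ≫ pL) ≫ sW) ≫ A.1.act.act, ?_⟩
  rw [comp_lift_assoc]
  simp only [← Category.assoc, incl_inclLE, hpL, hgL]
  exact (tors A).div_spec _ _ _

variable (kb) in
theorem exists_pt (A : Obj k' aX) : ∃ t : SGA7.pt (K := k) kb ⟶ A.1.P, t ≫ (tors A).m = cov k k' kb := by
  obtain ⟨R, hR, hs⟩ := A.1.loc
  haveI : Nonempty ↥A.1.base.left := by
    rw [show A.1.base = SGA7.pt (K := k) k' from A.2]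
    exact inferInstanceAs (Nonempty (PrimeSpectrum k'))
  obtain ⟨b⟩ := ‹Nonempty ↥A.1.base.left›
  obtain ⟨_, _, hh, c, -⟩ := hR.1 b
  rcases hh with @⟨S', f, hf⟩
  haveI : Etale f := hR.2 hf
  obtain ⟨s, hs⟩ := hs f hf
  have hs' : s ≫ A.1.π.left = f := hs
  let g : S' ⟶ Spec (CommRingCat.of k') := f ≫ (eqToHom A.2).left
  haveI : IsIso (eqToHom A.2).left := inferInstanceAs (IsIso ((Over.forget _).map (eqToHom A.2)))
  haveI : LocallyOfFiniteType g := inferInstanceAs (LocallyOfFiniteType (f ≫ (eqToHom A.2).left))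
  haveI : Nonempty ↥S' := ⟨c⟩
  haveI : Surjective g := ⟨Function.surjective_to_subsingleton (β := PrimeSpectrum k') g.base⟩
  haveI := IsAlgClosure.isAlgClosed k' (K := kb)
  obtain ⟨p, hp⟩ := FinCondH13.lift_of_surjective g kb (Spec.map (CommRingCat.ofHom (algebraMap k' kb)))
  have e : (p ≫ s) ≫ (A.1.π.left ≫ (eqToHom A.2).left) = Spec.map (CommRingCat.ofHom (algebraMap k' kb)) := by
    rw [Category.assoc, reassoc_of% hs']
    exact hp
  refine ⟨Over.homMk (p ≫ s) ?_, Over.OverMorphism.ext e⟩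
  have := congrArg (· ≫ (SGA7.pt (K := k) k').hom) e
  simp only [Category.assoc, Over.w] at this ⊢
  exact (congrArg (fun m => p ≫ s ≫ m) (Over.w A.1.π)).symm.trans (this.trans (Over.w (cov k k' kb)))

/-- Every point of the torsor gives a cocycle. -/
theorem exists_rep_of_pt (A : Obj k' aX) (t : SGA7.pt (K := k) kb ⟶ A.1.P) (ht : t ≫ (tors A).m = cov k k' kb) :
    ∃ z, IsCoc kb z ∧ Rep A t z (t ≫ A.1.φ) := by
  have he : ∀ σ, t ≫ (tors A).m = (galPt k k' kb σ ≫ t) ≫ (tors A).m := fun σ => by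
    rw [Category.assoc, ht, gal_cov]
  let z := fun σ => (tors A).div t (galPt k k' kb σ ≫ t) (he σ)
  have hz : ∀ σ, lift (z σ) (galPt k k' kb σ ≫ t) ≫ A.1.act.act = t := fun σ => (tors A).div_spec _ _ _
  have hcoc : ∀ σ τ, z (σ * τ) = z σ * (galPt k k' kb σ ≫ z τ) := fun σ τ => by
    refine (tors A).div_eq _ ?_
    show lift _ _ ≫ A.1.act.act = _
    rw [act_mul, gal_mul, Category.assoc, ← comp_lift_assoc, hz, hz]
  refine ⟨z, ⟨hcoc, ?_⟩, ⟨ht, hz, rfl⟩⟩
  obtain ⟨L, hL, tL, htL⟩ := exists_factor_pt A t ht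
  refine (IsLocallyConstant.iff_exists_open z).2 fun σ => ⟨{τ | σ⁻¹ * τ ∈ L.fixingSubgroup},
    L.fixingSubgroup_isOpen.preimage (continuous_const_mul σ⁻¹), by simp, fun τ hτ => ?_⟩
  have h1 : z (σ⁻¹ * τ) = 1 := (tors A).div_eq _ (by
    show lift _ _ ≫ A.1.act.act = _
    rw [act_one, ← htL, ← Category.assoc, gal_incl_of_mem L hτ])
  calc z τ = z (σ * (σ⁻¹ * τ)) := by rw [mul_inv_cancel_left]
    _ = z σ := by rw [hcoc, h1, MonObj.comp_one, _root_.mul_one]

/-- Every cocycle with a fixed point is realised. -/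
theorem exists_rep {z : (kb ≃ₐ[k'] kb) → (SGA7.pt (K := k) kb ⟶ G)} (hz : IsCoc kb z)
    (x : SGA7.pt (K := k) kb ⟶ X) (hx : ∀ σ, lift (z σ) (galPt k k' kb σ ≫ x) ≫ aX.act = x) :
    ∃ (A : Obj k' aX) (t : SGA7.pt (K := k) kb ⟶ A.1.P), Rep A t z x := by
  obtain ⟨L₀, hL₀, xL₀, hxL₀⟩ := exists_factor (k' := k') x
  obtain ⟨L, hL, hle, zL, hzL, hzL'⟩ := exists_cocycle_factor z hz.1 hz.2 L₀
  haveI := epi_ptMap k ((L.val).restrictScalars k)
  let xL := inclLE k k' kb hle ≫ xL₀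
  have hxL : incl k k' kb L ≫ xL = x := by rw [← Category.assoc, incl_inclLE, hxL₀]
  obtain ⟨A, hA, t, ht, htz, htx⟩ := exists_torsor (k := k) k' L zL hzL (aX := aX) xL fun τ => by
    obtain ⟨σ, hσ⟩ := exists_gal_lift (k := k) L τ
    rw [← cancel_epi (incl k k' kb L), comp_lift_assoc, hzL' σ τ hσ, ← reassoc_of% hσ, hxL, hx]
  refine ⟨⟨A, hA⟩, incl k k' kb L ≫ t, ⟨?_, fun σ => ?_, ?_⟩⟩
  · show (incl k k' kb L ≫ t) ≫ A.π ≫ eqToHom hA = _
    rw [Category.assoc, ht, incl_cov]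
  · show lift (z σ) (galPt k k' kb σ ≫ incl k k' kb L ≫ t) ≫ A.act.act = _
    rw [← hzL' σ _ (gal_incl L σ), reassoc_of% (gal_incl (k := k) L σ), ← comp_lift_assoc, htz]
  · show (incl k k' kb L ≫ t) ≫ A.φ = x
    rw [Category.assoc, htx, hxL]

/-- Morphisms are determined by the image of a point. -/
theorem obj_hom_ext {A A' : Obj k' aX} {t : SGA7.pt (K := k) kb ⟶ A.1.P} (ht : t ≫ (tors A).m = cov k k' kb)
    {f f' : A ⟶ A'} (h : t ≫ f.1.top = t ≫ f'.1.top) : f = f' := by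
  obtain ⟨L, hL, tL, htL⟩ := exists_factor_pt A t ht
  haveI := epi_ptMap k ((L.val).restrictScalars k)
  have h₁ : tL ≫ (tors A).m = cov k k' L := by
    rw [← cancel_epi (incl k k' kb L), reassoc_of% htL, ht, incl_cov]
  have h₂ : tL ≫ f.1.top = tL ≫ f'.1.top := by
    rw [← cancel_epi (incl k k' kb L), reassoc_of% htL, reassoc_of% htL, h]
  have hb : ∀ g : A ⟶ A', g.1.base = eqToHom (A.2.trans A'.2.symm) := fun g => by
    haveI := g.2
    have := IsHomLift.fac' (AlgSt.QuotSt Scheme.etalePrecoverage G aX).p (𝟙 (SGA7.pt (K := k) k')) g.1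
    simpa [AlgSt.QuotObj.forget] using this
  exact Functor.Fiber.hom_ext (AlgSt.QuotObj.hom_ext ((hb f).trans (hb f').symm)
    (map_ext (isGalCover k k' L) (tors A) (tors A') tL h₁ f.1.eqv f'.1.eqv h₂))

/-- Points with the same cocycle and image give morphisms. -/
theorem exists_hom {A A' : Obj k' aX} {t : SGA7.pt (K := k) kb ⟶ A.1.P} {t' : SGA7.pt (K := k) kb ⟶ A'.1.P}
    {z : (kb ≃ₐ[k'] kb) → (SGA7.pt (K := k) kb ⟶ G)} {x : SGA7.pt (K := k) kb ⟶ X}
    (h : Rep A t z x) (h' : Rep A' t' z x) : ∃ f : A ⟶ A', t ≫ f.1.top = t' := by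
  obtain ⟨L₁, hL₁, t₁, ht₁⟩ := exists_factor_pt A t h.hov
  obtain ⟨L₂, hL₂, t₂, ht₂⟩ := exists_factor_pt A' t' h'.hov
  let L := L₁ ⊔ L₂
  haveI := epi_ptMap k ((L.val).restrictScalars k)
  let tL := inclLE k k' kb (le_sup_left : L₁ ≤ L) ≫ t₁
  let tL' := inclLE k k' kb (le_sup_right : L₂ ≤ L) ≫ t₂
  have e : incl k k' kb L ≫ tL = t := by rw [← Category.assoc, incl_inclLE, ht₁]
  have e' : incl k k' kb L ≫ tL' = t' := by rw [← Category.assoc, incl_inclLE, ht₂]
  have ho : tL ≫ (tors A).m = cov k k' L := by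
    rw [← cancel_epi (incl k k' kb L), reassoc_of% e, h.hov, incl_cov]
  have ho' : tL' ≫ (tors A').m = cov k k' L := by
    rw [← cancel_epi (incl k k' kb L), reassoc_of% e', h'.hov, incl_cov]
  obtain ⟨q, hq, hqt⟩ := exists_quotHom (isGalCover k k' L) A.1 A'.1 A.2 A'.2 tL tL' ho ho' (fun τ => by
      obtain ⟨σ, hσ⟩ := exists_gal_lift (k := k) L τ
      have hd : tL ≫ (tors A).m = (galPt k k' L τ ≫ tL) ≫ (tors A).m := by
        refine ho.trans (Eq.trans ?_ (Category.assoc _ _ _).symm)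
        exact ((isGalCover k k' L).gal_c τ).symm.trans (congrArg (galPt k k' L τ ≫ ·) ho.symm)
      have ha : incl k k' kb L ≫ (tors A).div tL (galPt k k' L τ ≫ tL) hd = z σ := by
        rw [(tors A).comp_div]
        refine (tors A).div_eq _ ?_
        rw [← reassoc_of% hσ, e]
        exact h.coc σ
      refine ⟨(tors A).div tL (galPt k k' L τ ≫ tL) hd, (tors A).div_spec _ _ _, ?_⟩
      rw [← cancel_epi (incl k k' kb L), comp_lift_assoc, ha, ← reassoc_of% hσ, e']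
      exact h'.coc σ)
    (by rw [← cancel_epi (incl k k' kb L), reassoc_of% e, reassoc_of% e', h.img, h'.img])
  refine ⟨⟨q, IsHomLift.of_fac' _ _ q A.2 A'.2 ?_⟩, ?_⟩
  · show q.base = _
    rw [hq]
    simp
  · show t ≫ q.top = t'
    rw [← e, Category.assoc, hqt, e']

/-- The image of a representing point under a morphism. -/
theorem Rep.map {A A' : Obj k' aX} {t : SGA7.pt (K := k) kb ⟶ A.1.P}
    {z : (kb ≃ₐ[k'] kb) → (SGA7.pt (K := k) kb ⟶ G)} {x : SGA7.pt (K := k) kb ⟶ X} (h : Rep A t z x)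
    (f : A ⟶ A') : Rep A' (t ≫ f.1.top) z x := by
  refine ⟨?_, fun σ => ?_, by rw [Category.assoc, f.1.wφ, h.img]⟩
  · haveI := f.2
    have hb := IsHomLift.fac' (AlgSt.QuotSt Scheme.etalePrecoverage G aX).p (𝟙 (SGA7.pt (K := k) k')) f.1
    have hb' : f.1.base ≫ eqToHom A'.2 = eqToHom A.2 := by
      have hb'' : f.1.base = _ := hb
      rw [hb'']; simp
    show (t ≫ f.1.top) ≫ A'.1.π ≫ eqToHom A'.2 = _
    rw [Category.assoc, reassoc_of% f.1.cart.w, hb']
    exact h.hov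
  · rw [← Category.assoc, ← lift_whiskerLeft_assoc, ← f.1.eqv, ← Category.assoc, h.coc]

/-- All morphisms hov the base field are invertible. -/
theorem isIso_hom {A A' : Obj k' aX} (f : A ⟶ A') (kb : Type u) [Field kb] [Algebra k kb] [Algebra k' kb]
    [IsScalarTower k k' kb] [IsAlgClosure k' kb] : IsIso f := by
  obtain ⟨t, ht⟩ := exists_pt kb A
  obtain ⟨z, -, hR⟩ := exists_rep_of_pt A t ht
  obtain ⟨g, hg⟩ := exists_hom (hR.map f) hR
  refine ⟨g, obj_hom_ext ht ?_, obj_hom_ext (hR.map f).hov ?_⟩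
  · show t ≫ f.1.top ≫ g.1.top = t ≫ 𝟙 _
    rw [Category.comp_id, ← Category.assoc, hg]
  · show (t ≫ f.1.top) ≫ g.1.top ≫ f.1.top = (t ≫ f.1.top) ≫ 𝟙 _
    rw [Category.comp_id, ← Category.assoc (t ≫ f.1.top), hg]

variable (kb aX) in
/-- The points fixed by a twisted action. -/
abbrev Fix (z : (kb ≃ₐ[k'] kb) → (SGA7.pt (K := k) kb ⟶ G)) : Type u :=
  {x : SGA7.pt (K := k) kb ⟶ X // ∀ σ, lift (z σ) (galPt k k' kb σ ≫ x) ≫ aX.act = x}

variable (kb) in
/-- The group fixed by an inner twist. -/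
noncomputable def innFix (z : (kb ≃ₐ[k'] kb) → (SGA7.pt (K := k) kb ⟶ G)) :
    Subgroup (SGA7.pt (K := k) kb ⟶ G) where
  carrier := {g | ∀ σ, z σ * (galPt k k' kb σ ≫ g) * (z σ)⁻¹ = g}
  one_mem' := fun σ => by simp
  mul_mem' := fun {a b} ha hb σ => by
    conv_rhs => rw [← ha σ, ← hb σ]
    rw [MonObj.comp_mul]
    group
  inv_mem' := fun {a} ha σ => by
    conv_rhs => rw [← ha σ]
    rw [GrpObj.comp_inv]
    group

theorem mem_innFix {z : (kb ≃ₐ[k'] kb) → (SGA7.pt (K := k) kb ⟶ G)} {g : SGA7.pt (K := k) kb ⟶ G} :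
    g ∈ innFix kb z ↔ ∀ σ, z σ * (galPt k k' kb σ ≫ g) = g * z σ :=
  forall_congr' fun _ => mul_inv_eq_iff_eq_mul

theorem act_fix {z : (kb ≃ₐ[k'] kb) → (SGA7.pt (K := k) kb ⟶ G)} (g : innFix kb z) (x : Fix kb aX z)
    (σ : kb ≃ₐ[k'] kb) :
    lift (z σ) (galPt k k' kb σ ≫ lift g.1 x.1 ≫ aX.act) ≫ aX.act = lift g.1 x.1 ≫ aX.act := by
  rw [comp_lift_assoc, ← act_mul, mem_innFix.1 g.2 σ, act_mul, x.2 σ]

/-- The inner twist acts on the twisted fixed points. -/
@[instance_reducible]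
noncomputable def fixAction (z : (kb ≃ₐ[k'] kb) → (SGA7.pt (K := k) kb ⟶ G)) :
    MulAction (innFix kb z) (Fix kb aX z) where
  smul g x := ⟨lift g.1 x.1 ≫ aX.act, act_fix g x⟩
  one_smul x := Subtype.ext (act_one aX x.1)
  mul_smul g g' x := Subtype.ext (act_mul aX g.1 g'.1 x.1)

/-- Morphisms between represented objects. -/
theorem exists_homEquiv {A A' : Obj k' aX} {t : SGA7.pt (K := k) kb ⟶ A.1.P} {t' : SGA7.pt (K := k) kb ⟶ A'.1.P}
    {z : (kb ≃ₐ[k'] kb) → (SGA7.pt (K := k) kb ⟶ G)} {x x' : Fix kb aX z}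
    (h : Rep A t z x.1) (h' : Rep A' t' z x'.1) :
    Nonempty ((A ⟶ A') ≃ {g : innFix kb z // lift g.1 x'.1 ≫ aX.act = x.1}) := by
  have he : ∀ f : A ⟶ A', (t ≫ f.1.top) ≫ (tors A').m = t' ≫ (tors A').m := fun f =>
    (h.map f).hov.trans h'.hov.symm
  have hspec : ∀ f : A ⟶ A', lift ((tors A').div (t ≫ f.1.top) t' (he f)) t' ≫ A'.1.act.act = t ≫ f.1.top :=
    fun f => (tors A').div_spec _ _ _
  have hmem : ∀ f : A ⟶ A', (tors A').div (t ≫ f.1.top) t' (he f) ∈ innFix kb z := fun f => by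
    refine mem_innFix.2 fun σ => (tors A').act_inj (q := galPt k k' kb σ ≫ t') ?_
    show lift _ _ ≫ A'.1.act.act = lift _ _ ≫ A'.1.act.act
    rw [act_mul, act_mul, ← comp_lift_assoc, h'.coc, hspec, (h.map f).coc]
  refine ⟨Equiv.ofBijective (fun f => ⟨⟨_, hmem f⟩, ?_⟩) ⟨fun f f' e => ?_, fun g => ?_⟩⟩
  · show lift ((tors A').div (t ≫ f.1.top) t' (he f)) x'.1 ≫ aX.act = x.1
    rw [← h'.img]
    exact ((tors A').act_φ _ t').symm.trans ((congrArg (· ≫ A'.1.φ) (hspec f)).trans (h.map f).img)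
  · refine obj_hom_ext h.hov ?_
    have he' : (tors A').div (t ≫ f.1.top) t' (he f) = (tors A').div (t ≫ f'.1.top) t' (he f') :=
      congrArg (fun a => a.1.1) e
    exact (hspec f).symm.trans ((congrArg (fun d => lift d t' ≫ A'.1.act.act) he').trans (hspec f'))
  · obtain ⟨f, hf⟩ := exists_hom h (A' := A') (t' := lift g.1.1 t' ≫ A'.1.act.act)
      ⟨((tors A').act_m g.1.1 t').trans h'.hov, fun σ => by
        rw [comp_lift_assoc, ← act_mul, mem_innFix.1 g.1.2 σ, act_mul, h'.coc],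
       by
        refine ((tors A').act_φ _ _).trans ?_
        show lift _ (t' ≫ A'.1.φ) ≫ aX.act = _
        rw [h'.img, g.2]⟩
    exact ⟨f, Subtype.ext (Subtype.ext ((tors A').div_eq _ hf.symm))⟩

/-- Two points of one torsor have cohomologous cocycles. -/
theorem Rep.cohomologous {A : Obj k' aX} {t t' : SGA7.pt (K := k) kb ⟶ A.1.P}
    {z z' : (kb ≃ₐ[k'] kb) → (SGA7.pt (K := k) kb ⟶ G)} {x x' : SGA7.pt (K := k) kb ⟶ X}
    (h : Rep A t z x) (h' : Rep A t' z' x') : ∃ c, ∀ σ, z σ = c⁻¹ * z' σ * (galPt k k' kb σ ≫ c) := by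
  refine ⟨(tors A).div t' t (h'.hov.trans h.hov.symm), fun σ => ?_⟩
  have hs : lift ((tors A).div t' t (h'.hov.trans h.hov.symm)) t ≫ A.1.act.act = t' :=
    (tors A).div_spec _ _ _
  have e : (tors A).div t' t (h'.hov.trans h.hov.symm) * z σ =
      z' σ * (galPt k k' kb σ ≫ (tors A).div t' t (h'.hov.trans h.hov.symm)) :=
    (tors A).act_inj (q := galPt k k' kb σ ≫ t) (by
      show lift _ _ ≫ A.1.act.act = lift _ _ ≫ A.1.act.act
      rw [act_mul, act_mul, ← comp_lift_assoc, hs, h'.coc, h.coc, hs])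
  rw [_root_.mul_assoc, ← e, inv_mul_cancel_left]

/-- Changing the point by an element of the group. -/
theorem Rep.translate {A : Obj k' aX} {t : SGA7.pt (K := k) kb ⟶ A.1.P}
    {z z' : (kb ≃ₐ[k'] kb) → (SGA7.pt (K := k) kb ⟶ G)} {x : SGA7.pt (K := k) kb ⟶ X}
    (h : Rep A t z x) (c : SGA7.pt (K := k) kb ⟶ G) (hc : ∀ σ, z' σ = c⁻¹ * z σ * (galPt k k' kb σ ≫ c)) :
    Rep A (lift c⁻¹ t ≫ A.1.act.act) z' (lift c⁻¹ x ≫ aX.act) := by
  refine ⟨((tors A).act_m c⁻¹ t).trans h.hov, fun σ => ?_, ?_⟩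
  · rw [comp_lift_assoc, GrpObj.comp_inv, ← act_mul, hc σ, mul_inv_cancel_right, act_mul, h.coc]
  · refine ((tors A).act_φ _ _).trans ?_
    show lift _ (t ≫ A.1.φ) ≫ aX.act = _
    rw [h.img]

variable (kb aX) in
/-- The point count through representatives of the cocycle classes. -/
theorem count_eq {J : Type*} [Fintype J] (z : J → (kb ≃ₐ[k'] kb) → (SGA7.pt (K := k) kb ⟶ G))
    (hz : ∀ i, IsCoc kb (z i))
    (huniq : ∀ i j, (∃ c, ∀ σ, z i σ = c⁻¹ * z j σ * (galPt k k' kb σ ≫ c)) → i = j)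
    (hall : ∀ a, IsCoc kb a → ∃ i c, ∀ σ, z i σ = c⁻¹ * a σ * (galPt k k' kb σ ≫ c))
    [∀ i, Finite (innFix kb (z i))] [∀ i, Finite (Fix kb aX (z i))]
    (h : StkCnt.IsEssFinite (Obj k' aX)) :
    StkCnt.count (Obj k' aX) h = ∑ i, (Nat.card (Fix kb aX (z i)) : ℚ) / (Nat.card (innFix kb (z i)) : ℚ) := by
  classical
  have hcls : ∀ c : StkCnt.IsoCl (Obj k' aX), ∃ i t x, Rep c.out t (z i) x := fun c => by
    obtain ⟨t, ht⟩ := exists_pt kb c.out
    obtain ⟨a, ha, hR⟩ := exists_rep_of_pt c.out t ht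
    obtain ⟨i, g, hg⟩ := hall a ha
    exact ⟨i, _, _, hR.translate g hg⟩
  choose cls tc xc hcl using hcls
  choose Aobj tobj hobj using fun (i : _) (x : Fix kb aX (z i)) => exists_rep (hz i) x.1 x.2
  have hout : ∀ (B : Obj k' aX), Nonempty ((StkCnt.IsoCl.mk B).out ≅ B) := fun B =>
    @Quotient.mk_out _ (isIsomorphicSetoid (Obj k' aX)) B
  have hmk : ∀ i (x : Fix kb aX (z i)), cls (StkCnt.IsoCl.mk (Aobj i x)) = i := fun i x => by
    obtain ⟨e⟩ := hout (Aobj i x)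
    exact huniq _ _ (((hcl _).map e.hom).cohomologous (hobj i x))
  letI : ∀ i, MulAction (innFix kb (z i)) (Fix kb aX (z i)) := fun i => fixAction (z i)
  have hiso : ∀ i (x y : Fix kb aX (z i)), StkCnt.IsoCl.mk (Aobj i x) = StkCnt.IsoCl.mk (Aobj i y) ↔
      x ∈ MulAction.orbit (innFix kb (z i)) y := fun i x y => by
    obtain ⟨E⟩ := exists_homEquiv (hobj i x) (hobj i y)
    refine Quotient.eq.trans ⟨fun ⟨e⟩ => ⟨(E e.hom).1, Subtype.ext (E e.hom).2⟩, fun ⟨g, hg⟩ => ?_⟩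
    haveI := isIso_hom (E.symm ⟨g, congrArg Subtype.val hg⟩) kb
    exact ⟨asIso (E.symm ⟨g, congrArg Subtype.val hg⟩)⟩
  haveI : Fintype (StkCnt.IsoCl (Obj k' aX)) := @Fintype.ofFinite _ h.finite_isoCl
  rw [StkCnt.count_eq_sum]
  refine (Finset.sum_fiberwise Finset.univ cls
    (fun c => ((StkCnt.autCard (Obj k' aX) c : ℕ) : ℚ)⁻¹)).symm.trans (Finset.sum_congr rfl fun i _ => ?_)
  let f : Fix kb aX (z i) → {c : StkCnt.IsoCl (Obj k' aX) // cls c = i} := fun x => ⟨_, hmk i x⟩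
  have hf : Function.Surjective f := by
    rintro ⟨c, rfl⟩
    let x : Fix kb aX (z (cls c)) := ⟨xc c, (hcl c).fix⟩
    refine ⟨x, Subtype.ext ?_⟩
    obtain ⟨q, -⟩ := exists_hom (hobj _ x) (hcl c)
    haveI := isIso_hom q kb
    exact (Quotient.sound (⟨asIso q⟩ : Nonempty (Aobj _ x ≅ c.out))).trans (Quotient.out_eq c)
  have hw : ∀ x, StkCnt.autCard _ (f x).1 = Nat.card (MulAction.stabilizer (innFix kb (z i)) x) := fun x => by
    show StkCnt.autCard _ (StkCnt.IsoCl.mk (Aobj i x)) = _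
    rw [StkCnt.autCard_mk]
    obtain ⟨E⟩ := exists_homEquiv (hobj i x) (hobj i x)
    let e₁ : Aut (Aobj i x) ≃ (Aobj i x ⟶ Aobj i x) :=
      { toFun := fun e => e.hom
        invFun := fun q => @asIso _ _ _ _ q (isIso_hom q kb)
        left_inv := fun e => Iso.ext rfl
        right_inv := fun q => rfl }
    exact Nat.card_congr ((e₁.trans E).trans (Equiv.subtypeEquivRight fun g => ⟨fun hg => Subtype.ext hg,
      fun hg => congrArg Subtype.val hg⟩))
  obtain ⟨hfin, hsum⟩ := FFMass16.finsum_inv_card_stabilizer f hf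
    (fun x y => Subtype.ext_iff.trans (hiso i x y)) (fun c => StkCnt.autCard _ c.1) hw
  rw [← hsum, finsum_eq_sum_of_fintype]
  exact (Finset.sum_subtype _ (by simp) (fun c => ((StkCnt.autCard _ c : ℕ) : ℚ)⁻¹))

end Groth.Agent.StackGal23
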