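import Groth.Agent.Lib.GalDesc12.Basic
import Groth.Prelude.Def_GalTw2
import Groth.Agent.Lib.FEtLimit25.Field

/-!
# Galois covers in a slice category
-/

set_option autoImplicit false
set_option linter.style.haveILetI false
set_option backward.isDefEq.respectTransparency false
set_option backward.isDefEq.respectTransparency.types false
universe u

open CategoryTheory CategoryTheory.Limits AlgebraicGeometry

namespace Groth.Agent.StackGal23

section Abstract

variable {S : Scheme.{u}} {B C : Over S}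

/-- A Galois cover: morphisms descend along it exactly when they are invariant. -/
structure IsGalCover {Γ : Type u} [Group Γ] (c : C ⟶ B) (gal : Γ → (C ⟶ C)) : Prop where
  gal_c : ∀ γ, gal γ ≫ c = c
  gal_one : gal 1 = 𝟙 C
  gal_mul : ∀ γ δ, gal (γ * δ) = gal γ ≫ gal δ
  ext : ∀ {X Y : Over S} (m : X ⟶ B) (f g : X ⟶ Y),
    pullback.fst m c ≫ f = pullback.fst m c ≫ g → f = g
  desc : ∀ {X Y : Over S} (m : X ⟶ B) (f : pullback m c ⟶ Y),
    (∀ (γ : Γ) (p : pullback m c ⟶ pullback m c), p ≫ pullback.fst m c = pullback.fst m c →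
      p ≫ pullback.snd m c = pullback.snd m c ≫ gal γ → p ≫ f = f) →
    ∃ g : X ⟶ Y, pullback.fst m c ≫ g = f

variable {Γ : Type u} [Group Γ] {c : C ⟶ B} {gal : Γ → (C ⟶ C)}

/-- Equality of morphisms is checked on points with a chosen point of the cover. -/
theorem IsGalCover.hom_ext (h : IsGalCover c gal) {X Y : Over S} (m : X ⟶ B) {f g : X ⟶ Y}
    (H : ∀ {T : Over S} (u : T ⟶ X) (l : T ⟶ C), u ≫ m = l ≫ c → u ≫ f = u ≫ g) : f = g :=
  h.ext m f g (H _ _ pullback.condition)

/-- Descent of a rule on points with a chosen point of the cover. -/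
theorem IsGalCover.exists_desc (h : IsGalCover c gal) {X Y : Over S} (m : X ⟶ B)
    (F : ∀ {T : Over S} (u : T ⟶ X) (l : T ⟶ C), u ≫ m = l ≫ c → (T ⟶ Y))
    (hnat : ∀ {T T' : Over S} (v : T' ⟶ T) (u : T ⟶ X) (l : T ⟶ C) (e : u ≫ m = l ≫ c)
      (e' : (v ≫ u) ≫ m = (v ≫ l) ≫ c), v ≫ F u l e = F (v ≫ u) (v ≫ l) e')
    (hinv : ∀ {T : Over S} (u : T ⟶ X) (l : T ⟶ C) (γ : Γ) (e : u ≫ m = l ≫ c)
      (e' : u ≫ m = (l ≫ gal γ) ≫ c), F u (l ≫ gal γ) e' = F u l e) :
    ∃ g : X ⟶ Y, ∀ {T : Over S} (u : T ⟶ X) (l : T ⟶ C) (e : u ≫ m = l ≫ c), u ≫ g = F u l e := by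
  obtain ⟨g, hg⟩ := h.desc m (F (pullback.fst m c) (pullback.snd m c) pullback.condition) fun γ p h₁ h₂ => by
    have e' : pullback.fst m c ≫ m = (pullback.snd m c ≫ gal γ) ≫ c := by
      rw [Category.assoc, h.gal_c, pullback.condition]
    refine (hnat p _ _ _ (by rw [h₁, h₂, e'])).trans ?_
    have := hinv (pullback.fst m c) (pullback.snd m c) γ pullback.condition e'
    simp only [h₁, h₂]
    exact this
  refine ⟨g, fun {T} u l e => ?_⟩
  have h1 := congrArg (pullback.lift u l e ≫ ·) hg
  rw [← Category.assoc, pullback.lift_fst] at h1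
  refine h1.trans ((hnat (pullback.lift u l e) _ _ _ (by
    rw [pullback.lift_fst, pullback.lift_snd, e])).trans ?_)
  simp only [pullback.lift_fst, pullback.lift_snd]

end Abstract

section Fields

variable (k : Type u) [Field k]

/-- The map of points of a map of extensions. -/
noncomputable def ptMap {L L' : Type u} [Field L] [Algebra k L] [Field L'] [Algebra k L'] (f : L →ₐ[k] L') :
    SGA7.pt (K := k) L' ⟶ SGA7.pt (K := k) L :=
  Over.homMk (Spec.map (CommRingCat.ofHom f.toRingHom)) (by
    show Spec.map _ ≫ Spec.map _ = Spec.map _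
    rw [← Spec.map_comp, ← CommRingCat.ofHom_comp]
    congr 2
    exact f.comp_algebraMap)

@[simp] theorem ptMap_left {L L' : Type u} [Field L] [Algebra k L] [Field L'] [Algebra k L'] (f : L →ₐ[k] L') :
    (ptMap k f).left = Spec.map (CommRingCat.ofHom f.toRingHom) := rfl

theorem ptMap_comp {L L' L'' : Type u} [Field L] [Algebra k L] [Field L'] [Algebra k L'] [Field L''] [Algebra k L'']
    (f : L →ₐ[k] L') (g : L' →ₐ[k] L'') : ptMap k g ≫ ptMap k f = ptMap k (g.comp f) := by
  refine Over.OverMorphism.ext ?_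
  show Spec.map _ ≫ Spec.map _ = Spec.map _
  rw [← Spec.map_comp]
  rfl

theorem ptMap_id (L : Type u) [Field L] [Algebra k L] : ptMap k (AlgHom.id k L) = 𝟙 _ :=
  Over.OverMorphism.ext (Spec.map_id _)

theorem specAut_eq {L : Type u} [Field L] [Algebra k L] (σ : L ≃ₐ[k] L) :
    SGA7.specAut σ = ptMap k (σ : L →ₐ[k] L) := Over.OverMorphism.ext rfl

theorem epi_ptMap {L L' : Type u} [Field L] [Algebra k L] [Field L'] [Algebra k L'] (f : L →ₐ[k] L') :
    Epi (ptMap k f) := by
  haveI : Nonempty ↥(SGA7.pt (K := k) L').left := inferInstanceAs (Nonempty (PrimeSpectrum L'))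
  haveI : Surjective (ptMap k f).left := ⟨Function.surjective_to_subsingleton (β := PrimeSpectrum L) _⟩
  haveI : Flat (ptMap k f).left := by
    letI := f.toRingHom.toAlgebra
    exact (HasRingHomProperty.Spec_iff (P := @Flat)).2 (RingHom.flat_algebraMap_iff.2 inferInstance)
  haveI := Flat.epi_of_flat_of_surjective (ptMap k f).left
  exact (Over.forget _).epi_of_epi_map ‹_›

variable (k' : Type u) [Field k'] [Algebra k k'] (L : Type u) [Field L] [Algebra k L] [Algebra k' L]
  [IsScalarTower k k' L]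

/-- The structure map of an extension. -/
noncomputable abbrev cov : SGA7.pt (K := k) L ⟶ SGA7.pt (K := k) k' := ptMap k (IsScalarTower.toAlgHom k k' L)

/-- The Galois automorphisms. -/
noncomputable abbrev galPt (σ : L ≃ₐ[k'] L) : SGA7.pt (K := k) L ⟶ SGA7.pt (K := k) L :=
  ptMap k (AlgEquiv.restrictScalars k σ : L →ₐ[k] L)

theorem isGalCover [FiniteDimensional k' L] [IsGalois k' L] : IsGalCover (cov k k' L) (galPt k k' L) where
  gal_c σ := by
    rw [ptMap_comp]
    exact congrArg (ptMap k) (AlgHom.ext fun x => σ.commutes x)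
  gal_one := (congrArg (ptMap k) (AlgHom.ext fun _ => rfl)).trans (ptMap_id k L)
  gal_mul σ τ := Eq.trans (congrArg (ptMap k) (AlgHom.ext fun _ => rfl))
    (ptMap_comp k (AlgEquiv.restrictScalars k τ : L →ₐ[k] L) (AlgEquiv.restrictScalars k σ : L →ₐ[k] L)).symm
  ext {X Y} m f g h := by
    letI : X.left.Over (Spec (CommRingCat.of k')) := ⟨m.left⟩
    haveI := GalDesc12.effectiveEpi_bcFst k' L X.left
    have sq := (IsPullback.of_hasPullback m (cov k k' L)).map (Over.forget _)
    refine Over.OverMorphism.ext ?_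
    rw [← cancel_epi (Curv2.bcFst k' X.left L)]
    let e := sq.isoPullback
    have he : e.inv ≫ (pullback.fst m (cov k k' L)).left = Curv2.bcFst k' X.left L := sq.isoPullback_inv_fst
    rw [← he, Category.assoc, Category.assoc]
    exact congrArg (e.inv ≫ ·) (congrArg CommaMorphism.left h)
  desc {X Y} m f hf := by
    letI : X.left.Over (Spec (CommRingCat.of k')) := ⟨m.left⟩
    haveI := GalDesc12.effectiveEpi_bcFst k' L X.left
    have sq := (IsPullback.of_hasPullback m (cov k k' L)).map (Over.forget _)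
    let P : Scheme.{u} := Curv2.bc k' X.left L
    let e : (pullback m (cov k k' L)).left ≅ P := sq.isoPullback
    have he : e.inv ≫ (pullback.fst m (cov k k' L)).left = Curv2.bcFst k' X.left L := sq.isoPullback_inv_fst
    have he' : e.inv ≫ (pullback.snd m (cov k k' L)).left = Curv2.bcSnd k' X.left L := sq.isoPullback_inv_snd
    let f' : P ⟶ Y.left := e.inv ≫ f.left
    have hinv : ∀ σ : L ≃ₐ[k'] L, Curv2.galAct k' X.left L σ ≫ f' = f' := fun σ => by
      let p : pullback m (cov k k' L) ⟶ pullback m (cov k k' L) :=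
        pullback.lift (pullback.fst _ _) (pullback.snd _ _ ≫ galPt k k' L σ) (by
          rw [Category.assoc, ptMap_comp, pullback.condition]
          exact congrArg (pullback.snd _ _ ≫ ·) (congrArg (ptMap k) (AlgHom.ext fun x => (σ.commutes x).symm)))
      have hp := congrArg CommaMorphism.left (hf σ p (pullback.lift_fst _ _ _) (pullback.lift_snd _ _ _))
      have hg : Curv2.galAct k' X.left L σ ≫ e.inv = e.inv ≫ p.left := by
        apply sq.hom_ext
        · show (_ ≫ _) ≫ (pullback.fst m (cov k k' L)).left = (_ ≫ p.left) ≫ (pullback.fst m (cov k k' L)).left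
          rw [Category.assoc, he, GalDesc12.galAct_fst, Category.assoc, ← Over.comp_left, pullback.lift_fst, he]
        · show (_ ≫ _) ≫ (pullback.snd m (cov k k' L)).left = (_ ≫ p.left) ≫ (pullback.snd m (cov k k' L)).left
          rw [Category.assoc, he', GalDesc12.galAct_snd, Category.assoc, ← Over.comp_left, pullback.lift_snd,
            Over.comp_left, reassoc_of% he']
          rfl
      show _ ≫ e.inv ≫ f.left = e.inv ≫ f.left
      rw [reassoc_of% hg]
      exact congrArg (e.inv ≫ ·) hp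
    have hd : ∀ {Z : Scheme.{u}} (g₁ g₂ : Z ⟶ P),
        g₁ ≫ Curv2.bcFst k' X.left L = g₂ ≫ Curv2.bcFst k' X.left L → g₁ ≫ f' = g₂ ≫ f' := fun {Z} g₁ g₂ hg => by
      obtain ⟨U, hU, hU'⟩ := GalDesc12.exists_cover k' L X.left g₁ g₂ hg
      refine (Z.openCoverOfIsOpenCover U hU).hom_ext _ _ fun σ => ?_
      show (U σ).ι ≫ g₁ ≫ f' = (U σ).ι ≫ g₂ ≫ f'
      rw [reassoc_of% (hU' σ), hinv σ]
    let g₀ : X.left ⟶ Y.left := EffectiveEpi.desc (Curv2.bcFst k' X.left L) f' hd
    have hg₀ : Curv2.bcFst k' X.left L ≫ g₀ = f' := EffectiveEpi.fac _ f' hd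
    have hov : g₀ ≫ Y.hom = X.hom := by
      rw [← cancel_epi (Curv2.bcFst k' X.left L), reassoc_of% hg₀]
      show (e.inv ≫ f.left) ≫ Y.hom = _
      rw [Category.assoc, Over.w f, ← he, Category.assoc, Over.w]
    refine ⟨Over.homMk g₀ hov, Over.OverMorphism.ext ?_⟩
    show (pullback.fst m (cov k k' L)).left ≫ g₀ = f.left
    rw [← cancel_epi e.inv, reassoc_of% he, hg₀]

end Fields

end Groth.Agent.StackGal23
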