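import Groth.Agent.Lib.StackGal23.Class
import Groth.Agent.Lib.FFMass16.Count

/-!
# Galois action on geometric points and twisted conjugation in finite groups
-/

set_option autoImplicit false
set_option linter.style.haveILetI false
set_option linter.unusedSectionVars false
set_option backward.isDefEq.respectTransparency false
set_option backward.isDefEq.respectTransparency.types false
universe u

open CategoryTheory MonoidalCategory CartesianMonoidalCategory MonObj GrpObj AlgebraicGeometry

namespace Groth.Agent.StackGal23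

section Abstract

variable {A : Type*} [Group A]

/-- A group acted on by itself through twisted conjugation. -/
def TwConj (_φ : A →* A) : Type _ := A

@[instance_reducible]
noncomputable def twConjAction (φ : A →* A) : MulAction A (TwConj φ) where
  smul g a := (g * (show A from a) * (φ g)⁻¹ : A)
  one_smul a := by
    show (1 : A) * (show A from a) * (φ 1)⁻¹ = a
    simp
  mul_smul g h a := by
    show g * h * (show A from a) * (φ (g * h))⁻¹ = g * (h * (show A from a) * (φ h)⁻¹) * (φ g)⁻¹
    rw [map_mul, _root_.mul_inv_rev]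
    group

/-- The orbits of twisted conjugation in a finite group weigh one in total. -/
theorem sum_inv_card_twConj [Finite A] (φ : A →* A) {J : Type*} [Fintype J] (s : J → A)
    (hex : ∀ a, ∃ j g, a = g * s j * (φ g)⁻¹)
    (huniq : ∀ i j g, s i = g * s j * (φ g)⁻¹ → i = j) :
    ∑ j : J, ((Nat.card {g : A // g * s j = s j * φ g} : ℚ))⁻¹ = 1 := by
  classical
  letI := twConjAction φ
  haveI : Finite (TwConj φ) := inferInstanceAs (Finite A)
  choose f g hg using hex
  have horb : ∀ x : TwConj φ, x ∈ MulAction.orbit A (show TwConj φ from s (f x)) := fun x => ⟨g x, (hg x).symm⟩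
  have hfs : ∀ j, f (s j) = j := fun j => (huniq _ _ _ (hg (s j))).symm
  have h : ∀ x y : TwConj φ, f x = f y ↔ x ∈ MulAction.orbit A y := by
    intro x y
    constructor
    · intro e
      have h1 : (show TwConj φ from s (f y)) ∈ MulAction.orbit A y := MulAction.mem_orbit_symm.1 (horb y)
      have h2 := horb x
      rw [e] at h2
      exact MulAction.orbit_eq_iff.2 h1 ▸ h2
    · intro e
      have h2 : (show TwConj φ from s (f x)) ∈ MulAction.orbit A (show TwConj φ from s (f y)) := by
        have hx := MulAction.orbit_eq_iff.2 (MulAction.mem_orbit_symm.1 (horb x))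
        rw [← MulAction.orbit_eq_iff.2 (horb y), ← MulAction.orbit_eq_iff.2 e]
        exact MulAction.mem_orbit_symm.1 (horb x)
      obtain ⟨c, hc⟩ := h2
      exact huniq _ _ c hc.symm
  obtain ⟨-, hs⟩ := FFMass16.finsum_inv_card_stabilizer (G := A) (X := TwConj φ) f
    (fun j => ⟨s j, hfs j⟩) h (fun j => Nat.card {g : A // g * s j = s j * φ g}) fun x => by
      have hx : (show TwConj φ from s (f x)) ∈ MulAction.orbit A x := MulAction.mem_orbit_symm.1 (horb x)
      refine Eq.trans (Nat.card_congr (Equiv.subtypeEquivRight fun c => ?_))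
        (Nat.card_congr (MulAction.stabilizerEquivStabilizerOfOrbitRel hx).toEquiv)
      exact (mul_inv_eq_iff_eq_mul (a := c * s (f x)) (b := φ c) (c := s (f x))).symm
  rw [← finsum_eq_sum_of_fintype, hs]
  show (Nat.card A : ℚ) / (Nat.card A : ℚ) = 1
  exact div_self (by exact_mod_cast Nat.card_pos.ne')

end Abstract

variable {k : Type u} [Field k] {k' : Type u} [Field k'] [Algebra k k'] [Finite k']
  {kb : Type u} [Field kb] [Algebra k kb] [Algebra k' kb] [IsScalarTower k k' kb] [IsAlgClosure k' kb]
  {G : Over (Spec (CommRingCat.of k))} [GrpObj G]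

variable (k' kb G) in
/-- The Galois action on geometric points. -/
@[instance_reducible]
noncomputable def galAction : MulDistribMulAction (kb ≃ₐ[k'] kb) (SGA7.pt (K := k) kb ⟶ G) where
  smul σ x := galPt k k' kb σ ≫ x
  one_smul x := by
    show galPt k k' kb 1 ≫ x = x
    rw [gal_one, Category.id_comp]
  mul_smul σ τ x := by
    show galPt k k' kb (σ * τ) ≫ x = galPt k k' kb σ ≫ galPt k k' kb τ ≫ x
    rw [gal_mul, Category.assoc]
  smul_mul σ x y := MonObj.comp_mul _ x y
  smul_one σ := MonObj.comp_one _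

/-- Geometric points have open stabilisers. -/
theorem isOpen_setOf_gal_eq [Finite k] {Y : Over (Spec (CommRingCat.of k))} [LocallyOfFiniteType Y.hom]
    (x : SGA7.pt (K := k) kb ⟶ Y) : IsOpen {σ : kb ≃ₐ[k'] kb | galPt k k' kb σ ≫ x = x} := by
  obtain ⟨L, hL, xL, hxL⟩ := exists_factor (k' := k') x
  let H : Subgroup (kb ≃ₐ[k'] kb) :=
    { carrier := {σ | galPt k k' kb σ ≫ x = x}
      one_mem' := by
        show galPt k k' kb 1 ≫ x = x
        rw [gal_one, Category.id_comp]
      mul_mem' := fun {σ τ} hσ hτ => by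
        have hσ' : galPt k k' kb σ ≫ x = x := hσ
        have hτ' : galPt k k' kb τ ≫ x = x := hτ
        show galPt k k' kb (σ * τ) ≫ x = x
        rw [gal_mul, Category.assoc, hτ', hσ']
      inv_mem' := fun {σ} hσ => by
        have hσ' : galPt k k' kb σ ≫ x = x := hσ
        show galPt k k' kb σ⁻¹ ≫ x = x
        conv_lhs => rw [← hσ']
        rw [← Category.assoc, ← gal_mul, inv_mul_cancel, gal_one, Category.id_comp] }
  have hle : L.fixingSubgroup ≤ H := fun σ hσ => by
    show galPt k k' kb σ ≫ x = x
    rw [← hxL, ← Category.assoc, gal_incl_of_mem L hσ]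
  exact Subgroup.isOpen_mono hle L.fixingSubgroup_isOpen

/-- Conjugates of cocycles. -/
theorem isCoc_conj [Finite k] [LocallyOfFiniteType G.hom] {z : (kb ≃ₐ[k'] kb) → (SGA7.pt (K := k) kb ⟶ G)}
    (hz : IsCoc kb z) (g : SGA7.pt (K := k) kb ⟶ G) :
    IsCoc kb fun σ => g * z σ * (galPt k k' kb σ ≫ g)⁻¹ := by
  refine ⟨fun σ τ => ?_, ?_⟩
  · show g * z (σ * τ) * (galPt k k' kb (σ * τ) ≫ g)⁻¹ = g * z σ * (galPt k k' kb σ ≫ g)⁻¹ *
      (galPt k k' kb σ ≫ (g * z τ * (galPt k k' kb τ ≫ g)⁻¹))
    rw [hz.1, MonObj.comp_mul, MonObj.comp_mul, GrpObj.comp_inv, gal_mul, Category.assoc]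
    group
  · have h1 : IsLocallyConstant fun σ : kb ≃ₐ[k'] kb => galPt k k' kb σ ≫ g := by
      refine (IsLocallyConstant.iff_exists_open _).2 fun σ =>
        ⟨(fun τ => σ⁻¹ * τ) ⁻¹' {τ | galPt k k' kb τ ≫ g = g},
          (isOpen_setOf_gal_eq g).preimage (continuous_const_mul σ⁻¹),
          by simp [gal_one], fun τ hτ => ?_⟩
      have h2 : galPt k k' kb (σ⁻¹ * τ) ≫ g = g := hτ
      conv_rhs => rw [← h2]
      rw [← Category.assoc, ← gal_mul, mul_inv_cancel_left]
    exact hz.2.comp₂ h1 fun x y => g * x * y⁻¹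

end Groth.Agent.StackGal23
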