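import Groth.Prelude.Def_GSzH1
import Mathlib.FieldTheory.Finite.Extension
import Mathlib.FieldTheory.KrullTopology
import Mathlib.FieldTheory.IsAlgClosed.Basic

/-!
# Cocycles of the Galois group of a finite field are determined by their value at Frobenius
-/

set_option autoImplicit false
set_option linter.style.haveILetI false
universe u v

namespace Groth.Agent.StackGal23

variable {k : Type u} [Field k] [Finite k] {kb : Type u} [Field kb] [Algebra k kb] [IsAlgClosure k kb]

open IntermediateField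
open scoped Pointwise

/-- Automorphisms agree with powers of Frobenius on finite extensions. -/
theorem exists_eq_frob_pow
    {π : kb ≃ₐ[k] kb} (hπ : ∀ x, π x = x ^ Nat.card k)
    (E : IntermediateField k kb) [FiniteDimensional k E] :
    (∀ σ : kb ≃ₐ[k] kb, ∃ n : ℕ, ∀ x ∈ E, σ x = (π ^ n) x) ∧
      ∀ n m : ℕ, (∀ x ∈ E, (π ^ n) x = (π ^ m) x) → n ≡ m [MOD Module.finrank k E] := by
  letI := Fintype.ofFinite k
  haveI : Finite E := Module.finite_of_finite k
  let φ := FiniteField.frobeniusAlgEquivOfAlgebraic k E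
  have hφ : ∀ (n : ℕ) (x : E), (((φ ^ n) x : E) : kb) = (π ^ n) (x : kb) := by
    intro n
    induction n with
    | zero => intro x; rfl
    | succ n ih =>
      intro x
      rw [pow_succ', pow_succ', AlgEquiv.mul_apply, AlgEquiv.mul_apply, ← ih, hπ, Nat.card_eq_fintype_card,
        FiniteField.coe_frobeniusAlgEquivOfAlgebraic, SubmonoidClass.coe_pow]
  refine ⟨fun σ => ?_, fun n m h => ?_⟩
  · obtain ⟨n, hn⟩ := (FiniteField.bijective_frobeniusAlgEquivOfAlgebraic_pow k E).2 (σ.restrictNormal E)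
    refine ⟨n, fun x hx => ?_⟩
    have h1 := hφ n ⟨x, hx⟩
    rw [show φ ^ (n : ℕ) = σ.restrictNormal E from hn] at h1
    exact ((AlgEquiv.restrictNormal_commutes σ E ⟨x, hx⟩).symm.trans h1)
  · rw [← FiniteField.orderOf_frobeniusAlgEquivOfAlgebraic k E, ← pow_eq_pow_iff_modEq]
    refine AlgEquiv.ext fun x => Subtype.ext ?_
    rw [hφ, hφ]; exact h x x.2

/-- Extensions of every degree. -/
theorem exists_finrank_eq (M : ℕ) (hM : 0 < M) :
    ∃ E : IntermediateField k (kb), FiniteDimensional k E ∧ Module.finrank k E = M := by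
  haveI : NeZero M := ⟨hM.ne'⟩
  haveI := IsAlgClosure.isAlgClosed k (K := kb)
  obtain ⟨p, _⟩ := CharP.exists k
  haveI : Fact p.Prime := ⟨CharP.char_is_prime k p⟩
  let f : FiniteField.Extension k p M →ₐ[k] kb := IsAlgClosed.lift
  let e := (AlgEquiv.ofInjectiveField f).toLinearEquiv
  exact ⟨f.fieldRange, e.finiteDimensional, e.finrank_eq.symm.trans (FiniteField.finrank_extension k p M)⟩

/-- `a · π a ⋯ π^(n-1) a` -/
def iterProd {G : Type u} {A : Type v} [Group G] [Group A] [MulDistribMulAction G A] (π : G) (a : A) : ℕ → A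
  | 0 => 1
  | n + 1 => iterProd π a n * π ^ n • a

theorem iterProd_add {G : Type u} {A : Type v} [Group G] [Group A] [MulDistribMulAction G A] (π : G) (a : A)
    (m n : ℕ) : iterProd π a (m + n) = iterProd π a m * π ^ m • iterProd π a n := by
  induction n with
  | zero => simp [iterProd]
  | succ n ih => rw [← Nat.add_assoc, iterProd, ih, iterProd, smul_mul', smul_smul, pow_add, mul_assoc]


/-- Cocycles are determined by their value at Frobenius, which is arbitrary. -/
theorem frobValue_bijective (π : kb ≃ₐ[k] kb) (hπ : ∀ x : kb, π x = x ^ Nat.card k)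
    (A : Type v) [Group A] [MulDistribMulAction (kb ≃ₐ[k] kb) A]
    (hcont : ∀ a : A, IsOpen {σ : kb ≃ₐ[k] kb | σ • a = a})
    (hfin : ∀ a : A, ∃ H : Subgroup A, (H : Set A).Finite ∧ a ∈ H ∧
      ∀ (σ : kb ≃ₐ[k] kb) (x : A), x ∈ H → σ • x ∈ H) :
    Function.Bijective (fun z : GpH1.OneCocycleLC (kb ≃ₐ[k] kb) A => z.1 π) ∧
      ∀ z z' : GpH1.OneCocycleLC (kb ≃ₐ[k] kb) A,
        z.cl = z'.cl ↔ ∃ g : A, z'.1 π = g * z.1 π * (π • g)⁻¹ := by
  let Γ := kb ≃ₐ[k] kb
  have hnhds : ∀ (σ : Γ) (U : Set Γ), IsOpen U → σ ∈ U →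
      ∃ E : IntermediateField k (kb), FiniteDimensional k E ∧
        ∀ τ : Γ, (∀ x ∈ E, τ x = σ x) → τ ∈ U := by
    intro σ U hU hσ
    have h1 : (fun τ : Γ => σ * τ) ⁻¹' U ∈ nhds (1 : Γ) :=
      (hU.preimage (continuous_const_mul σ)).mem_nhds (by simpa using hσ)
    obtain ⟨E, hE, hEU⟩ := (krullTopology_mem_nhds_one_iff k _ _).1 h1
    refine ⟨E, hE, fun τ hτ => ?_⟩
    have h2 : σ⁻¹ * τ ∈ E.fixingSubgroup := by
      rw [IntermediateField.mem_fixingSubgroup_iff]
      intro x hx
      rw [AlgEquiv.mul_apply, hτ x hx]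
      exact σ.symm_apply_apply x
    simpa using hEU h2
  have hinj : ∀ z z' : GpH1.OneCocycleLC Γ A, z.1 π = z'.1 π → z = z' := by
    intro z z' h
    have hpow : ∀ n : ℕ, z.1 (π ^ n) = z'.1 (π ^ n) := by
      have h1 : ∀ w : GpH1.OneCocycleLC Γ A, w.1 (1 : Γ) = 1 := fun w => by
        have := w.1.2 1 1
        rw [one_smul, _root_.one_mul] at this
        exact mul_eq_left.1 this.symm
      intro n
      induction n with
      | zero => rw [pow_zero, h1, h1]
      | succ n ih => rw [pow_succ, z.1.2, z'.1.2, ih, h]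
    apply Subtype.ext
    refine GpH1.OneCocycle.ext fun σ => ?_
    obtain ⟨E, hE, hEU⟩ := hnhds σ _ ((z.2.isOpen_fiber (z.1 σ)).inter (z'.2.isOpen_fiber (z'.1 σ))) ⟨rfl, rfl⟩
    obtain ⟨n, hn⟩ := (exists_eq_frob_pow hπ E).1 σ
    obtain ⟨h2, h3⟩ := hEU (π ^ n) fun x hx => (hn x hx).symm
    rw [← h2, ← h3, hpow n]
  refine ⟨⟨fun z z' h => hinj z z' h, fun a => ?_⟩, fun z z' => ?_⟩
  · obtain ⟨H, hH, haH, hstab⟩ := hfin a
    let s := iterProd π a
    have hsH : ∀ n, s n ∈ H := by
      intro n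
      induction n with
      | zero => exact H.one_mem
      | succ n ih => exact H.mul_mem ih (hstab _ a haH)
    obtain ⟨E₁, hE₁, hU⟩ := hnhds 1 (⋂ x ∈ (H : Set A), {σ : Γ | σ • x = x})
      (hH.isOpen_biInter fun x _ => hcont x) (Set.mem_iInter₂.2 fun x _ => one_smul _ x)
    have hfix : ∀ σ : Γ, (∀ y ∈ E₁, σ y = y) → ∀ x ∈ H, σ • x = x := fun σ hσ x hx =>
      Set.mem_iInter₂.1 (hU σ fun y hy => hσ y hy) x hx
    haveI := hE₁
    haveI : Finite E₁ := Module.finite_of_finite k
    let N := Module.finrank k E₁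
    have hN : ∀ x ∈ H, π ^ N • x = x := by
      refine hfix _ fun y hy => ?_
      have h1 : (π ^ N) y = y ^ Nat.card k ^ N := by
        induction N with
        | zero => simp
        | succ n ih => rw [pow_succ', AlgEquiv.mul_apply, ih, hπ, ← pow_mul, ← pow_succ]
      rw [h1, ← Module.natCard_eq_pow_finrank (K := k) (V := E₁)]
      letI := Fintype.ofFinite E₁
      rw [Nat.card_eq_fintype_card]
      exact congrArg Subtype.val (FiniteField.pow_card (⟨y, hy⟩ : E₁))
    have hNj : ∀ j, s (N * j) = s N ^ j ∧ ∀ x ∈ H, π ^ (N * j) • x = x := by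
      intro j
      induction j with
      | zero => exact ⟨by simp [s, iterProd], fun x _ => by simp⟩
      | succ j ih =>
        rw [Nat.mul_succ]
        refine ⟨?_, fun x hx => ?_⟩
        · rw [show s (N * j + N) = s (N * j) * π ^ (N * j) • s N from iterProd_add π a _ _, ih.1,
            ih.2 _ (hsH N), pow_succ]
        · rw [pow_add, mul_smul, hN x hx, ih.2 x hx]
    haveI : Finite H := hH.to_subtype
    let d := orderOf (⟨s N, hsH N⟩ : H)
    have hd : 0 < d := orderOf_pos _
    let M := N * d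
    have hM : s M = 1 := by
      rw [(hNj d).1]
      exact congrArg Subtype.val (pow_orderOf_eq_one (⟨s N, hsH N⟩ : H))
    have hper : ∀ n m, n ≡ m [MOD M] → s n = s m := by
      have h1 : ∀ j r, s (M * j + r) = s r := by
        intro j
        induction j with
        | zero => simp
        | succ j ih =>
          intro r
          rw [show M * (j + 1) + r = M + (M * j + r) by ring,
            show s (M + (M * j + r)) = s M * π ^ M • s (M * j + r) from iterProd_add π a _ _, hM, _root_.one_mul,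
            (hNj d).2 _ (hsH _), ih]
      intro n m h
      rw [← Nat.div_add_mod n M, ← Nat.div_add_mod m M, h1, h1, show n % M = m % M from h]
    obtain ⟨E₂, hE₂, hE₂M⟩ := exists_finrank_eq (k := k) (kb := kb) M (Nat.mul_pos Module.finrank_pos hd)
    haveI := hE₂
    let E := E₁ ⊔ E₂
    have hdvd : M ∣ Module.finrank k E := hE₂M ▸ IntermediateField.finrank_dvd_of_le_right le_sup_right
    obtain ⟨hex, hmod⟩ := exists_eq_frob_pow hπ E
    choose n hn using hex
    let z : Γ → A := fun σ => s (n σ)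
    have hz : ∀ σ m, (∀ x ∈ E, σ x = (π ^ m) x) → z σ = s m := fun σ m h =>
      hper _ _ ((hmod _ _ fun x hx => (hn σ x hx).symm.trans (h x hx)).of_dvd hdvd)
    have hcoc : GpH1.IsOneCocycle z := by
      intro σ τ
      have h2 : σ • z τ = π ^ n σ • z τ := by
        have h4 := hfix ((π ^ n σ)⁻¹ * σ) (fun y hy => by
          rw [AlgEquiv.mul_apply, hn σ y (le_sup_left (b := E₂) hy)]
          exact (π ^ n σ).symm_apply_apply y) (z τ) (hsH _)
        rwa [mul_smul, inv_smul_eq_iff] at h4
      rw [hz (σ * τ) (n σ + n τ) fun x hx => ?_]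
      · rw [h2]; exact iterProd_add π a _ _
      · rw [AlgEquiv.mul_apply, pow_add, AlgEquiv.mul_apply, hn τ x hx]
        refine hn σ _ ?_
        have h5 : ∀ m, (π ^ m) x ∈ E := by
          intro m
          induction m with
          | zero => exact hx
          | succ m ih => rw [pow_succ', AlgEquiv.mul_apply, hπ]; exact pow_mem ih _
        exact h5 _
    have hlc : IsLocallyConstant z := by
      refine (IsLocallyConstant.iff_exists_open z).2 fun σ => ⟨(σ • (E.fixingSubgroup : Set Γ)),
        (IntermediateField.fixingSubgroup_isOpen E).smul σ,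
        ⟨1, one_mem E.fixingSubgroup, _root_.mul_one σ⟩, ?_⟩
      rintro _ ⟨τ, hτ, rfl⟩
      refine hz _ _ fun x hx => ?_
      rw [← hn σ x hx]
      show (σ * τ) x = σ x
      rw [AlgEquiv.mul_apply, (IntermediateField.mem_fixingSubgroup_iff _ _).1 hτ x hx]
    refine ⟨⟨⟨z, hcoc⟩, hlc⟩, ?_⟩
    show z π = a
    rw [hz π 1 fun x _ => by rw [pow_one]]
    simp [s, iterProd]
  · rw [GpH1.OneCocycleLC.cl_eq_cl_iff]
    constructor
    · rintro ⟨c, hc⟩
      exact ⟨c, by rw [hc π]; group⟩
    · rintro ⟨g, hg⟩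
      let w : Γ → A := fun σ => g * z.1 σ * (σ • g)⁻¹
      have hw : GpH1.IsOneCocycle w := fun σ τ => by
        simp only [w, z.1.2 σ τ, smul_mul', smul_inv', mul_smul]
        group
      have hwl : IsLocallyConstant w := by
        have h1 : IsLocallyConstant fun σ : Γ => σ • g := by
          refine (IsLocallyConstant.iff_exists_open _).2 fun σ => ⟨(fun τ : Γ => σ⁻¹ * τ) ⁻¹' {τ | τ • g = g},
            (hcont g).preimage (continuous_const_mul σ⁻¹), by simp, fun τ hτ => ?_⟩
          have h2 : (σ⁻¹ * τ) • g = g := hτ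
          rwa [mul_smul, inv_smul_eq_iff] at h2
        exact z.2.comp₂ h1 fun x y => g * x * y⁻¹
      have he : z'.1 = ⟨w, hw⟩ := congrArg Subtype.val (hinj z' ⟨⟨w, hw⟩, hwl⟩ hg)
      refine ⟨g, fun σ => ?_⟩
      rw [he]
      simp only [w]
      group

end Groth.Agent.StackGal23
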