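import Groth.Agent.Lib.StackGal23.Quot
import Groth.Agent.Lib.FinCondH13.Points
import Mathlib.FieldTheory.KrullTopology
import Mathlib.FieldTheory.Finite.Extension

/-!
# Points with values in an algebraic closure of a finite field
-/

set_option autoImplicit false
set_option linter.style.haveILetI false
set_option linter.unusedSectionVars false
set_option backward.isDefEq.respectTransparency false
set_option backward.isDefEq.respectTransparency.types false
universe u

open CategoryTheory AlgebraicGeometry MonObj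
open Limits (pullback)

namespace Groth.Agent.StackGal23

variable (k : Type u) [Field k] (k' : Type u) [Field k'] [Algebra k k'] [Finite k']
  (kb : Type u) [Field kb] [Algebra k kb] [Algebra k' kb] [IsScalarTower k k' kb] [IsAlgClosure k' kb]

/-- The inclusion of a subfield on points. -/
noncomputable abbrev incl (L : IntermediateField k' kb) : SGA7.pt (K := k) kb ⟶ SGA7.pt (K := k) L :=
  ptMap k ((L.val).restrictScalars k)

/-- The inclusion of subfields on points. -/
noncomputable abbrev inclLE {L M : IntermediateField k' kb} (h : L ≤ M) :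
    SGA7.pt (K := k) M ⟶ SGA7.pt (K := k) L :=
  ptMap k ((IntermediateField.inclusion h).restrictScalars k)

variable {k k' kb}

theorem incl_inclLE {L M : IntermediateField k' kb} (h : L ≤ M) :
    incl k k' kb M ≫ inclLE k k' kb h = incl k k' kb L :=
  (ptMap_comp k _ _).trans (congrArg (ptMap k) (AlgHom.ext fun _ => rfl))

theorem incl_cov (L : IntermediateField k' kb) : incl k k' kb L ≫ cov k k' L = cov k k' kb :=
  (ptMap_comp k _ _).trans (congrArg (ptMap k) (AlgHom.ext fun _ => rfl))

theorem inclLE_cov {L M : IntermediateField k' kb} (h : L ≤ M) :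
    inclLE k k' kb h ≫ cov k k' L = cov k k' M :=
  (ptMap_comp k _ _).trans (congrArg (ptMap k) (AlgHom.ext fun _ => rfl))

theorem gal_cov (σ : kb ≃ₐ[k'] kb) : galPt k k' kb σ ≫ cov k k' kb = cov k k' kb :=
  (ptMap_comp k _ _).trans (congrArg (ptMap k) (AlgHom.ext fun x => σ.commutes x))

theorem gal_mul (σ τ : kb ≃ₐ[k'] kb) : galPt k k' kb (σ * τ) = galPt k k' kb σ ≫ galPt k k' kb τ :=
  Eq.trans (congrArg (ptMap k) (AlgHom.ext fun _ => rfl))
    (ptMap_comp k (AlgEquiv.restrictScalars k τ : kb →ₐ[k] kb) (AlgEquiv.restrictScalars k σ : kb →ₐ[k] kb)).symm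

theorem gal_one : galPt k k' kb 1 = 𝟙 (SGA7.pt (K := k) kb) :=
  (congrArg (ptMap k) (AlgHom.ext fun _ => rfl)).trans (ptMap_id k kb)

theorem smul_eq [Finite k] [IsAlgClosure k kb] {Y : Over (Spec (CommRingCat.of k))} (σ : kb ≃ₐ[k] kb)
    (x : SGA7.Pts kb Y) : σ • x = galPt k k kb σ ≫ x := rfl

instance isGalois_finite (L : IntermediateField k' kb) [FiniteDimensional k' L] : IsGalois k' L := by
  haveI : Finite L := Module.finite_of_finite k'
  infer_instance

theorem gal_incl (L : IntermediateField k' kb) [Normal k' L] (σ : kb ≃ₐ[k'] kb) :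
    galPt k k' kb σ ≫ incl k k' kb L = incl k k' kb L ≫ galPt k k' L (AlgEquiv.restrictNormalHom L σ) :=
  (ptMap_comp k _ _).trans (Eq.trans
    (congrArg (ptMap k) (show (AlgEquiv.restrictScalars k σ : kb →ₐ[k] kb).comp ((L.val).restrictScalars k) =
        ((L.val).restrictScalars k).comp
          (AlgEquiv.restrictScalars k (AlgEquiv.restrictNormalHom L σ) : L →ₐ[k] L) from
      AlgHom.ext fun x => (AlgEquiv.restrictNormal_commutes σ L x).symm)) (ptMap_comp k _ _).symm)

theorem exists_gal_lift (L : IntermediateField k' kb) [Normal k' L] (τ : L ≃ₐ[k'] L) :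
    ∃ σ : kb ≃ₐ[k'] kb, galPt k k' kb σ ≫ incl k k' kb L = incl k k' kb L ≫ galPt k k' L τ := by
  haveI := IsAlgClosure.normal k' kb
  obtain ⟨σ, hσ⟩ := AlgEquiv.restrictNormalHom_surjective (F := k') (K₁ := L) kb τ
  exact ⟨σ, by rw [gal_incl, hσ]⟩

/-- A point fixed by an automorphism of the big field. -/
theorem gal_incl_of_mem (L : IntermediateField k' kb) {σ : kb ≃ₐ[k'] kb} (hσ : σ ∈ L.fixingSubgroup) :
    galPt k k' kb σ ≫ incl k k' kb L = incl k k' kb L :=
  (ptMap_comp k _ _).trans (congrArg (ptMap k) (AlgHom.ext fun x =>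
    (IntermediateField.mem_fixingSubgroup_iff L σ).1 hσ x x.2))

variable [Finite k]

/-- Points with values in the algebraic closure are defined over finite extensions. -/
theorem exists_factor {Y : Over (Spec (CommRingCat.of k))} [LocallyOfFiniteType Y.hom]
    (x : SGA7.pt (K := k) kb ⟶ Y) :
    ∃ L : IntermediateField k' kb, FiniteDimensional k' L ∧
      ∃ xL : SGA7.pt (K := k) L ⟶ Y, incl k k' kb L ≫ xL = x := by
  classical
  obtain ⟨U, hU, hxU, -⟩ := exists_isAffineOpen_mem_and_subset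
    (show x.left (IsLocalRing.closedPoint kb) ∈ (⊤ : Y.left.Opens) from trivial)
  let f : Spec (CommRingCat.of kb) ⟶ Spec Γ(Y.left, U) := IsOpenImmersion.lift hU.fromSpec x.left (by
    rintro _ ⟨p, rfl⟩
    rw [hU.range_fromSpec, Subsingleton.elim (α := PrimeSpectrum kb) p (IsLocalRing.closedPoint kb)]
    exact hxU)
  have hf : f ≫ hU.fromSpec = x.left := IsOpenImmersion.lift_fac _ _ _
  let φ := Spec.preimage f
  let α := Spec.preimage (hU.fromSpec ≫ Y.hom)
  have hα : α.hom.FiniteType := HasRingHomProperty.Spec_iff.1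
    (show LocallyOfFiniteType (Spec.map α) by rw [Spec.map_preimage]; infer_instance)
  have hcomp : α ≫ φ = CommRingCat.ofHom (algebraMap k kb) := by
    apply Spec.map_injective
    rw [Spec.map_comp, Spec.map_preimage, Spec.map_preimage, reassoc_of% hf]
    exact Over.w x
  letI : Algebra k Γ(Y.left, U) := α.hom.toAlgebra
  let φ' : Γ(Y.left, U) →ₐ[k] kb := { φ.hom with commutes' := fun c => congr($hcomp c) }
  haveI : Algebra.FiniteType k Γ(Y.left, U) := hα
  obtain ⟨s, hs⟩ := (Algebra.FiniteType.out : (⊤ : Subalgebra k Γ(Y.left, U)).FG)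
  haveI : Algebra.IsAlgebraic k' kb := IsAlgClosure.isAlgebraic
  let L : IntermediateField k' kb := IntermediateField.adjoin k' ((s.image φ' : Finset kb) : Set kb)
  haveI : FiniteDimensional k' L :=
    IntermediateField.finiteDimensional_adjoin fun a _ => Algebra.IsIntegral.isIntegral a
  refine ⟨L, inferInstance, ?_⟩
  have hmem : ∀ a, φ' a ∈ L := fun a => by
    have ha : a ∈ Algebra.adjoin k (s : Set Γ(Y.left, U)) := hs ▸ trivial
    have : Algebra.adjoin k (s : Set Γ(Y.left, U)) ≤ (L.restrictScalars k).toSubalgebra.comap φ' :=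
      Algebra.adjoin_le fun b hb => IntermediateField.subset_adjoin _ _
        (Finset.mem_coe.2 (Finset.mem_image_of_mem φ' hb))
    exact this ha
  let ψ : Γ(Y.left, U) →+* L := φ'.toRingHom.codRestrict L.toSubfield hmem
  have hψ : (incl k k' kb L).left ≫ Spec.map (CommRingCat.ofHom ψ) ≫ hU.fromSpec = x.left := by
    rw [← hf, ← Category.assoc, ← Spec.map_preimage f]
    congr 1
    show Spec.map _ ≫ Spec.map _ = _
    rw [← Spec.map_comp]
    rfl
  haveI := epi_ptMap k ((L.val).restrictScalars k)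
  haveI : Surjective (incl k k' kb L).left := by
    haveI : Nonempty ↥(SGA7.pt (K := k) kb).left := inferInstanceAs (Nonempty (PrimeSpectrum kb))
    exact ⟨Function.surjective_to_subsingleton (β := PrimeSpectrum L) _⟩
  haveI : Flat (incl k k' kb L).left :=
    (HasRingHomProperty.Spec_iff (P := @Flat)).2
      (RingHom.flat_algebraMap_iff.2 (inferInstance : Module.Flat L kb))
  haveI := Flat.epi_of_flat_of_surjective (incl k k' kb L).left
  refine ⟨Over.homMk (Spec.map (CommRingCat.ofHom ψ) ≫ hU.fromSpec) ?_, Over.OverMorphism.ext hψ⟩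
  rw [← cancel_epi (incl k k' kb L).left, Category.assoc, reassoc_of% hψ]
  exact (Over.w x).trans (Over.w (incl k k' kb L)).symm

/-- Rational points are the Galois invariant points. -/
theorem exists_of_fixed {Y : Over (Spec (CommRingCat.of k))} [LocallyOfFiniteType Y.hom]
    (x : SGA7.pt (K := k) kb ⟶ Y) (h : ∀ σ : kb ≃ₐ[k'] kb, galPt k k' kb σ ≫ x = x) :
    ∃ y : SGA7.pt (K := k) k' ⟶ Y, cov k k' kb ≫ y = x := by
  obtain ⟨L, hL, xL, hxL⟩ := exists_factor (k' := k') x
  have hfix : ∀ τ : L ≃ₐ[k'] L, galPt k k' L τ ≫ xL = xL := fun τ => by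
    obtain ⟨σ, hσ⟩ := exists_gal_lift (k := k) L τ
    haveI := epi_ptMap k ((L.val).restrictScalars k)
    rw [← cancel_epi (incl k k' kb L), ← reassoc_of% hσ, hxL, h]
  obtain ⟨y, hy⟩ := (isGalCover k k' L).exists_desc (𝟙 _) (fun {T} _ l _ => l ≫ xL)
    (fun v u l e e' => (Category.assoc _ _ _).symm) (fun u l τ e e' => by
      show (l ≫ galPt k k' L τ) ≫ xL = l ≫ xL
      rw [Category.assoc, hfix])
  refine ⟨y, ?_⟩
  rw [← incl_cov L, Category.assoc, hy (cov k k' L) (𝟙 _) (by simp), Category.id_comp, hxL]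

/-- Rational points as invariant points. -/
noncomputable def ptsEquiv (Y : Over (Spec (CommRingCat.of k))) [LocallyOfFiniteType Y.hom] :
    (SGA7.pt (K := k) k' ⟶ Y) ≃
      {x : SGA7.pt (K := k) kb ⟶ Y // ∀ σ : kb ≃ₐ[k'] kb, galPt k k' kb σ ≫ x = x} :=
  Equiv.ofBijective (fun y => ⟨cov k k' kb ≫ y, fun σ => by rw [← Category.assoc, gal_cov]⟩)
    ⟨fun a b e => by
      haveI := epi_ptMap k (IsScalarTower.toAlgHom k k' kb)
      exact (cancel_epi (cov k k' kb)).1 (congrArg Subtype.val e),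
     fun x => by
      obtain ⟨y, hy⟩ := exists_of_fixed x.1 x.2
      exact ⟨y, Subtype.ext hy⟩⟩

/-- Locally constant cocycles factor through finite extensions. -/
theorem exists_cocycle_factor {G : Over (Spec (CommRingCat.of k))} [GrpObj G] [LocallyOfFiniteType G.hom]
    (z : (kb ≃ₐ[k'] kb) → (SGA7.pt (K := k) kb ⟶ G))
    (hz : ∀ σ τ, z (σ * τ) = z σ * (galPt k k' kb σ ≫ z τ)) (hlc : IsLocallyConstant z)
    (L₀ : IntermediateField k' kb) [FiniteDimensional k' L₀] :
    ∃ L : IntermediateField k' kb, FiniteDimensional k' L ∧ L₀ ≤ L ∧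
      ∃ zL : (L ≃ₐ[k'] L) → (SGA7.pt (K := k) L ⟶ G),
        (∀ σ τ, zL (σ * τ) = zL σ * (galPt k k' L σ ≫ zL τ)) ∧
        ∀ (σ : kb ≃ₐ[k'] kb) (τ : L ≃ₐ[k'] L),
          galPt k k' kb σ ≫ incl k k' kb L = incl k k' kb L ≫ galPt k k' L τ → incl k k' kb L ≫ zL τ = z σ := by
  classical
  haveI := IsAlgClosure.normal k' kb
  have hz1 : z 1 = 1 := by
    have := hz 1 1
    rw [_root_.mul_one, gal_one, Category.id_comp] at this
    exact mul_eq_left.1 this.symm
  obtain ⟨E, hE, hEz⟩ := (krullTopology_mem_nhds_one_iff k' kb _).1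
    ((hlc.isOpen_fiber 1).mem_nhds hz1)
  have hmul : ∀ σ τ, τ ∈ E.fixingSubgroup → z (σ * τ) = z σ := fun σ τ hτ => by
    rw [hz, show z τ = 1 from hEz hτ, MonObj.comp_one, _root_.mul_one]
  haveI : FiniteDimensional k' E := hE
  have hEq : ∀ σ σ' : kb ≃ₐ[k'] kb, (∀ a ∈ E, σ a = σ' a) → z σ = z σ' := fun σ σ' h => by
    have : σ⁻¹ * σ' ∈ E.fixingSubgroup := (IntermediateField.mem_fixingSubgroup_iff E _).2 fun a ha => by
      rw [AlgEquiv.mul_apply, ← h a ha]
      exact σ.symm_apply_apply a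
    have := hmul σ _ this
    rwa [mul_inv_cancel_left, eq_comm] at this
  choose σE hσE using fun τ : E ≃ₐ[k'] E => exists_gal_lift (k := k) E τ
  choose F hFd gF hgF using fun τ : E ≃ₐ[k'] E => exists_factor (k' := k') (z (σE τ))
  haveI := hFd
  haveI : Finite (E ≃ₐ[k'] E) := inferInstance
  let L : IntermediateField k' kb := E ⊔ L₀ ⊔ ⨆ τ, F τ
  have hle : E ≤ L := le_sup_left.trans le_sup_left
  refine ⟨L, inferInstance, le_sup_right.trans le_sup_left, ?_⟩
  choose σL hσL using fun τ : L ≃ₐ[k'] L => exists_gal_lift (k := k) L τ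
  haveI := epi_ptMap k ((L.val).restrictScalars k)
  have hrange : ∀ σ, ∃ gL : SGA7.pt (K := k) L ⟶ G, incl k k' kb L ≫ gL = z σ := fun σ => by
    let τ := AlgEquiv.restrictNormalHom E σ
    have hF : F τ ≤ L := (le_iSup F τ).trans le_sup_right
    refine ⟨inclLE k k' kb hF ≫ gF τ, ?_⟩
    rw [← Category.assoc, incl_inclLE, hgF]
    refine hEq _ _ fun a ha => ?_
    have h := congr($(congrArg CommaMorphism.left (hσE τ)))
    have h' := congrArg CommRingCat.Hom.hom (Spec.map_injective (show Spec.map _ = Spec.map _ from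
      (Spec.map_comp _ _).trans (h.trans (Spec.map_comp _ _).symm)))
    exact (congr($h' (⟨a, ha⟩ : E))).trans (AlgEquiv.restrictNormal_commutes σ E ⟨a, ha⟩)
  choose gL hgL using hrange
  have key : ∀ (σ : kb ≃ₐ[k'] kb) (τ : L ≃ₐ[k'] L),
      galPt k k' kb σ ≫ incl k k' kb L = incl k k' kb L ≫ galPt k k' L τ →
        incl k k' kb L ≫ gL (σL τ) = z σ := by
    intro σ τ h
    rw [hgL]
    refine hEq _ _ fun a ha => ?_
    have h2 := congrArg CommaMorphism.left ((hσL τ).trans h.symm)
    have h' := congrArg CommRingCat.Hom.hom (Spec.map_injective (show Spec.map _ = Spec.map _ from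
      (Spec.map_comp _ _).trans (h2.trans (Spec.map_comp _ _).symm)))
    exact congr($h' (⟨a, hle ha⟩ : L))
  refine ⟨fun τ => gL (σL τ), fun σ τ => ?_, key⟩
  rw [← cancel_epi (incl k k' kb L), MonObj.comp_mul, key (σL σ * σL τ) (σ * τ), hz,
    key (σL σ) σ (hσL σ), ← reassoc_of% (hσL σ), key (σL τ) τ (hσL τ)]
  rw [gal_mul, Category.assoc, hσL τ, reassoc_of% (hσL σ), ← (isGalCover k k' L).gal_mul]

end Groth.Agent.StackGal23
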