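import Groth.Agent.Lib.StackGal23.Torsor
import Groth.Agent.Lib.GalTwist25.Exists
import Mathlib.AlgebraicGeometry.Sites.Etale

/-!
# Torsors over finite fields extensions from cocycles
-/

set_option autoImplicit false
set_option linter.style.haveILetI false
set_option linter.unusedSectionVars false
set_option backward.isDefEq.respectTransparency false
set_option backward.isDefEq.respectTransparency.types false
universe u

open CategoryTheory MonoidalCategory CartesianMonoidalCategory MonObj GrpObj AlgebraicGeometry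
open Limits (pullback)

namespace Groth.Agent.StackGal23

/-- The quotient by a twisted free Galois action is a form. -/
theorem isPullback_of_galois {k L : Type u} [Field k] [Field L] [Algebra k L] [FiniteDimensional k L] [IsGalois k L]
    {Q Y : Scheme.{u}} (ρ : (L ≃ₐ[k] L) →* Aut Q) (p : Q ⟶ Y) (hp : SGA1.IsQuot ρ p)
    (s : Q ⟶ Spec (CommRingCat.of L)) (hs : ∀ σ, (ρ σ).hom ≫ s = s ≫ GalTw.specMap L σ⁻¹)
    (q : Y ⟶ Spec (CommRingCat.of k)) (hq : p ≫ q = s ≫ Spec.map (CommRingCat.ofHom (algebraMap k L))) :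
    IsPullback p s q (Spec.map (CommRingCat.ofHom (algebraMap k L))) := by
  classical
  let pt := Spec.map (CommRingCat.ofHom (algebraMap k L))
  have hfree : IsQuot25.Free ρ := by
    intro Ω _ _ ξ σ h
    obtain ⟨χ, hχ⟩ := Spec.map_surjective (ξ ≫ s)
    have h1 : (ξ ≫ s) ≫ GalTw.specMap L σ⁻¹ = ξ ≫ s := by
      conv_rhs => rw [← h]
      simp only [Category.assoc, hs]
    rw [← hχ, GalTw.specMap, ← Spec.map_comp] at h1
    have h2 := congrArg CommRingCat.Hom.hom (Spec.map_injective h1)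
    have : σ⁻¹ = 1 := AlgEquiv.ext fun x => χ.hom.injective (RingHom.congr_fun h2 x)
    simpa using this
  let ψ : Q ⟶ pullback q pt := Limits.pullback.lift p s hq
  have hψ1 : ψ ≫ Limits.pullback.fst q pt = p := Limits.pullback.lift_fst _ _ _
  have hψ2 : ψ ≫ Limits.pullback.snd q pt = s := Limits.pullback.lift_snd _ _ _
  haveI : IsFinite p := IsQuot25.isFinite_free hp hfree
  haveI : Etale p := IsQuot25.etale hp hfree
  haveI : Surjective p := ⟨IsQuot25.surjective hp⟩
  obtain ⟨h1, h2⟩ := FEtLimit25.isFinite_etale_of_separable k L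
  haveI : IsFinite (Limits.pullback.fst q pt) := MorphismProperty.pullback_fst _ _ h1
  haveI : Etale (Limits.pullback.fst q pt) := MorphismProperty.pullback_fst _ _ h2
  let P : FEt.Cat Y := MorphismProperty.Over.mk ⊤ p ⟨inferInstance, inferInstance⟩
  let R : FEt.Cat Y := MorphismProperty.Over.mk ⊤ (Limits.pullback.fst q pt) ⟨inferInstance, inferInstance⟩
  let Ψ : P ⟶ R := MorphismProperty.Over.homMk ψ hψ1
  have hiso : IsIso Ψ := by
    refine FEtEq25.isIso_of_bijective_fibres Ψ fun Ω _ _ ξ => ⟨fun a b hab => ?_, fun r => ?_⟩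
    · have hab' : a.1 ≫ ψ = b.1 ≫ ψ := congrArg Subtype.val hab
      obtain ⟨σ, hσ⟩ := IsQuot25.exists_act_of_comp_eq hp a.1 b.1 (a.2.trans b.2.symm)
      have hfix : (a.1 ≫ s) ≫ GalTw.specMap L σ⁻¹ = a.1 ≫ s := by
        rw [Category.assoc, ← hs σ, ← Category.assoc, hσ, ← hψ2, reassoc_of% hab']
      obtain ⟨χ, hχ⟩ := Spec.map_surjective (a.1 ≫ s)
      rw [← hχ, GalTw.specMap, ← Spec.map_comp] at hfix
      have h2 := congrArg CommRingCat.Hom.hom (Spec.map_injective hfix)
      have h3 : σ⁻¹ = 1 := AlgEquiv.ext fun x => χ.hom.injective (RingHom.congr_fun h2 x)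
      apply Subtype.ext
      rw [← hσ, inv_eq_one.1 h3, map_one]
      exact (Category.comp_id _).symm
    · obtain ⟨z, hz⟩ := p.surjective (ξ (IsLocalRing.closedPoint Ω))
      obtain ⟨a, ha, -⟩ := FEtEq25.exists_fiber_point ξ p z hz
      obtain ⟨χ, hχ⟩ := Spec.map_surjective (a ≫ s)
      obtain ⟨χ', hχ'⟩ := Spec.map_surjective (r.1 ≫ Limits.pullback.snd q pt)
      have hk : Spec.map χ ≫ pt = Spec.map χ' ≫ pt := by
        rw [hχ, hχ', Category.assoc, ← hq, ← Category.assoc, ha, Category.assoc, ← Limits.pullback.condition,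
          ← Category.assoc]
        exact congrArg (· ≫ q) r.2.symm
      letI : Algebra k Ω := (χ.hom.comp (algebraMap k L)).toAlgebra
      have hk' := congrArg CommRingCat.Hom.hom (Spec.map_injective
        ((Spec.map_comp _ _).trans (hk.trans (Spec.map_comp _ _).symm)))
      let e₁ : L →ₐ[k] Ω := { χ.hom with commutes' := fun c => rfl }
      let e₂ : L →ₐ[k] Ω := { χ'.hom with commutes' := fun c => (RingHom.congr_fun hk' c).symm }
      have hbij : Function.Bijective fun σ : L ≃ₐ[k] L => e₁.comp (σ : L →ₐ[k] L) := by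
        refine (Fintype.bijective_iff_injective_and_card _).2 ⟨fun σ τ h => ?_, ?_⟩
        · exact AlgEquiv.ext fun x => χ.hom.injective (AlgHom.congr_fun h x)
        · rw [AlgHom.card, ← Nat.card_eq_fintype_card, IsGalois.card_aut_eq_finrank]
      obtain ⟨σ, hσ⟩ := hbij.2 e₂
      refine ⟨⟨a ≫ (ρ σ⁻¹).hom, ?_⟩, Subtype.ext (Limits.pullback.hom_ext ?_ ?_)⟩
      · show (a ≫ (ρ σ⁻¹).hom) ≫ p = ξ
        rw [Category.assoc, hp.inv, ha]
      · show ((a ≫ (ρ σ⁻¹).hom) ≫ ψ) ≫ Limits.pullback.fst q pt = r.1 ≫ Limits.pullback.fst q pt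
        rw [Category.assoc, hψ1, Category.assoc, hp.inv, ha]
        exact r.2.symm
      · show ((a ≫ (ρ σ⁻¹).hom) ≫ ψ) ≫ Limits.pullback.snd q pt = r.1 ≫ Limits.pullback.snd q pt
        rw [Category.assoc, hψ2, Category.assoc, hs, _root_.inv_inv, ← Category.assoc, ← hχ, ← hχ', GalTw.specMap,
          ← Spec.map_comp]
        exact congrArg Spec.map (CommRingCat.hom_ext (RingHom.ext fun x => AlgHom.congr_fun hσ x))
  haveI : IsIso ψ :=
    inferInstanceAs (IsIso ((MorphismProperty.Over.forget FEt.prop ⊤ Y ⋙ Over.forget Y).map Ψ))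
  exact IsPullback.of_iso_pullback ⟨hq⟩ (asIso ψ) hψ1 hψ2

section

variable {k : Type u} [Field k] {G X : Over (Spec (CommRingCat.of k))} [GrpObj G] [IsAffineHom G.hom]
  {aX : AlgGrp.Action G X}
variable (k' : Type u) [Field k'] [Algebra k k'] (L : Type u) [Field L] [Algebra k L] [Algebra k' L]
  [IsScalarTower k k' L] [FiniteDimensional k' L] [IsGalois k' L]

/-- Cocycles are realised by torsors. -/
theorem exists_torsor (z : (L ≃ₐ[k'] L) → (SGA7.pt (K := k) L ⟶ G))
    (hz : ∀ σ τ, z (σ * τ) = z σ * (galPt k k' L σ ≫ z τ))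
    (x : SGA7.pt (K := k) L ⟶ X) (hx : ∀ σ, lift (z σ) (galPt k k' L σ ≫ x) ≫ aX.act = x) :
    ∃ (A : AlgSt.QuotObj Scheme.etalePrecoverage G aX) (h : A.base = SGA7.pt (K := k) k')
      (t : SGA7.pt (K := k) L ⟶ A.P), t ≫ A.π ≫ eqToHom h = cov k k' L ∧
      (∀ σ, lift (z σ) (galPt k k' L σ ≫ t) ≫ A.act.act = t) ∧ t ≫ A.φ = x := by
  have hc := isGalCover k k' L
  let C : Over (Spec (CommRingCat.of k)) := SGA7.pt (K := k) L
  haveI : IsAffine (G ⊗ C).left := by
    haveI : IsAffine G.left := isAffine_of_isAffineHom G.hom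
    haveI : IsAffineHom (Limits.pullback.fst G.hom C.hom) := MorphismProperty.pullback_fst _ _ (by
      show IsAffineHom (Spec.map _); infer_instance)
    exact isAffine_of_isAffineHom (Limits.pullback.fst G.hom C.hom)
  let w : (L ≃ₐ[k'] L) → (G ⊗ C ⟶ G ⊗ C) :=
    fun σ => lift (fst G C * (snd G C ≫ z σ)) (snd G C ≫ galPt k k' L σ)
  have hw : ∀ σ τ, w σ ≫ w τ = w (σ * τ) := fun σ τ => by
    apply CartesianMonoidalCategory.hom_ext
    · simp only [w, Category.assoc, lift_fst, comp_mul, lift_snd_assoc, hz σ τ, _root_.mul_assoc]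
    · simp only [w, Category.assoc, lift_snd, lift_snd_assoc, hc.gal_mul σ τ]
  have hz1 : z 1 = 1 := by
    have := hz 1 1
    rw [_root_.mul_one, hc.gal_one, Category.id_comp] at this
    exact mul_eq_left.1 this.symm
  have hw1 : w 1 = 𝟙 _ := by
    apply CartesianMonoidalCategory.hom_ext
    · simp [w, hz1]
    · simp [w, hc.gal_one]
      exact Category.comp_id _
  let ρ : (L ≃ₐ[k'] L) →* Aut (G ⊗ C).left :=
    MonoidHom.mk' (fun σ =>
      { hom := (w σ⁻¹).left
        inv := (w σ).left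
        hom_inv_id := by rw [← Over.comp_left, hw, _root_.inv_mul_cancel, hw1]; rfl
        inv_hom_id := by rw [← Over.comp_left, hw, _root_.mul_inv_cancel, hw1]; rfl }) fun σ τ => Iso.ext (by
      show (w (σ * τ)⁻¹).left = (w τ⁻¹).left ≫ (w σ⁻¹).left
      rw [← Over.comp_left, hw, _root_.mul_inv_rev])
  obtain ⟨Y₀, p, -, hp⟩ := IsQuot25.exists_isQuot_of_isAffine ρ
  let s : (G ⊗ C).left ⟶ Spec (CommRingCat.of L) := (snd G C).left
  have hs : ∀ σ, (ρ σ).hom ≫ s = s ≫ GalTw.specMap L σ⁻¹ := fun σ => by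
    show (w σ⁻¹).left ≫ (snd G C).left = _
    rw [← Over.comp_left, lift_snd]
    rfl
  let pt := Spec.map (CommRingCat.ofHom (algebraMap k' L))
  obtain ⟨m₀, hm₀, -⟩ := IsQuot25.desc_unique hp (s ≫ pt) fun σ => by
    rw [← Category.assoc, hs, Category.assoc]
    congr 1
    rw [GalTw.specMap, ← Spec.map_comp, ← CommRingCat.ofHom_comp]
    congr 2
    exact RingHom.ext fun a => (σ⁻¹ : L ≃ₐ[k'] L).commutes a
  let Y : Over (Spec (CommRingCat.of k)) := Over.mk (m₀ ≫ (SGA7.pt (K := k) k').hom)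
  let q : G ⊗ C ⟶ Y := Over.homMk p (by
    show p ≫ m₀ ≫ (SGA7.pt (K := k) k').hom = (G ⊗ C).hom
    rw [reassoc_of% hm₀]
    refine Eq.trans ?_ (Over.w (snd G C))
    show s ≫ pt ≫ (SGA7.pt (K := k) k').hom = s ≫ C.hom
    congr 1
    exact Over.w (cov k k' L))
  let m : Y ⟶ SGA7.pt (K := k) k' := Over.homMk m₀ rfl
  have sq : IsPullback q (snd G C) m (cov k k' L) :=
    IsPullback.of_map (Over.forget _) (Over.OverMorphism.ext hm₀) (isPullback_of_galois ρ p hp s hs m₀ hm₀)
  obtain ⟨P, hP, t, ht, htz, htφ⟩ := exists_tors hc z Y q m sq (fun σ => Over.OverMorphism.ext (by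
    show (w σ).left ≫ p = p
    have := hp.inv σ⁻¹
    rwa [show (ρ σ⁻¹).hom = (w σ).left from congrArg (fun g => (w g).left) (_root_.inv_inv σ)] at this)) x hx
  have hloc : NonAbH1.IsLocallyTrivialFor Scheme.etalePrecoverage
      (Over.mk P.m.left : Over (SGA7.pt (K := k) k').left) := by
    haveI : Etale pt := (FEtLimit25.isFinite_etale_of_separable k' L).2
    refine ⟨Presieve.singleton pt, (Scheme.singleton_mem_precoverage_iff (P := @Etale) _).2 ⟨?_, inferInstanceAs (Etale pt)⟩, ?_⟩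
    · exact Function.surjective_to_subsingleton (α := PrimeSpectrum L) (β := PrimeSpectrum k') _
    · rintro S' f ⟨⟩
      exact ⟨t.left, congrArg CommaMorphism.left ht⟩
  refine ⟨{ base := SGA7.pt (K := k) k', P := P.P, act := P.act, π := P.m, cart := P.cart, loc := hloc,
            φ := P.φ, eqv := P.eqv }, rfl, t, ?_, htz, htφ⟩
  simpa using ht

end

end Groth.Agent.StackGal23
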