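import Groth.Agent.Lib.StackGal23.Cover
import Groth.Agent.Lib.AlgGrpBasic19.Basic
import Groth.Prelude.Def_AlgSt5

/-!
# Torsors trivialised by a Galois cover
-/

set_option autoImplicit false
set_option linter.style.haveILetI false
set_option linter.unusedSectionVars false
set_option backward.isDefEq.respectTransparency false
set_option backward.isDefEq.respectTransparency.types false
universe u

open CategoryTheory MonoidalCategory CartesianMonoidalCategory MonObj GrpObj AlgebraicGeometry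
open Limits (pullback)
open Groth.Agent.AlgGrpBasic19 (act_mul)

namespace Groth.Agent.StackGal23

variable {S : Scheme.{u}} {G X : Over S} [GrpObj G] (aX : AlgGrp.Action G X) (B : Over S)

/-- A torsor over `B` with an equivariant map to `X`. -/
structure Tors where
  P : Over S
  act : AlgGrp.Action G P
  m : P ⟶ B
  cart : IsPullback act.act (snd G P) m m
  φ : P ⟶ X
  eqv : act.act ≫ φ = (G ◁ φ) ≫ aX.act

variable {aX B}

/-- The torsor of an object of the quotient category. -/
noncomputable def Tors.ofObj {K : Precoverage Scheme.{u}} (A : AlgSt.QuotObj K G aX) (h : A.base = B) :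
    Tors aX B where
  P := A.P
  act := A.act
  m := A.π ≫ eqToHom h
  cart := A.cart.of_iso (Iso.refl _) (Iso.refl _) (Iso.refl _) (eqToIso h) (by simp) (by simp) (by simp) (by simp)
  φ := A.φ
  eqv := A.eqv

namespace Tors

variable (P : Tors aX B)

theorem act_m {T : Over S} (g : T ⟶ G) (p : T ⟶ P.P) : (lift g p ≫ P.act.act) ≫ P.m = p ≫ P.m := by
  rw [Category.assoc, P.cart.w, lift_snd_assoc]

theorem act_φ {T : Over S} (g : T ⟶ G) (p : T ⟶ P.P) :
    (lift g p ≫ P.act.act) ≫ P.φ = lift g (p ≫ P.φ) ≫ aX.act := by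
  rw [Category.assoc, P.eqv, lift_whiskerLeft_assoc]

/-- The element of the group carrying one point to another. -/
noncomputable def div {T : Over S} (p q : T ⟶ P.P) (h : p ≫ P.m = q ≫ P.m) : T ⟶ G :=
  P.cart.lift p q h ≫ fst G P.P

theorem div_spec {T : Over S} (p q : T ⟶ P.P) (h : p ≫ P.m = q ≫ P.m) :
    lift (P.div p q h) q ≫ P.act.act = p := by
  have e : lift (P.div p q h) q = P.cart.lift p q h := by
    apply CartesianMonoidalCategory.hom_ext
    · rw [lift_fst]; rfl
    · rw [lift_snd, P.cart.lift_snd]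
  rw [e, P.cart.lift_fst]

theorem act_inj {T : Over S} {g g' : T ⟶ G} {q : T ⟶ P.P}
    (h : lift g q ≫ P.act.act = lift g' q ≫ P.act.act) : g = g' := by
  have e : lift g q = lift g' q := P.cart.hom_ext h (by rw [lift_snd, lift_snd])
  simpa using congrArg (· ≫ fst G P.P) e

theorem div_eq {T : Over S} {p q : T ⟶ P.P} (h : p ≫ P.m = q ≫ P.m) {g : T ⟶ G}
    (hg : lift g q ≫ P.act.act = p) : P.div p q h = g :=
  P.act_inj ((P.div_spec p q h).trans hg.symm)

theorem comp_div {T T' : Over S} (v : T' ⟶ T) (p q : T ⟶ P.P) (h : p ≫ P.m = q ≫ P.m) :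
    v ≫ P.div p q h = P.div (v ≫ p) (v ≫ q) (by rw [Category.assoc, Category.assoc, h]) :=
  (P.div_eq _ (by rw [← comp_lift, Category.assoc, P.div_spec])).symm

end Tors

variable {C : Over S} {Γ : Type u} [Group Γ] {c : C ⟶ B} {gal : Γ → (C ⟶ C)}

/-- Torsors with points of the same cocycle and the same image are isomorphic. -/
theorem exists_map (hc : IsGalCover c gal) (P P' : Tors aX B) (t : C ⟶ P.P) (t' : C ⟶ P'.P)
    (ht : t ≫ P.m = c) (ht' : t' ≫ P'.m = c)
    (hτ : ∀ τ : Γ, ∃ a : C ⟶ G, lift a (gal τ ≫ t) ≫ P.act.act = t ∧ lift a (gal τ ≫ t') ≫ P'.act.act = t')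
    (hφ : t ≫ P.φ = t' ≫ P'.φ) :
    ∃ f : P.P ⟶ P'.P, f ≫ P'.m = P.m ∧ P.act.act ≫ f = (G ◁ f) ≫ P'.act.act ∧ f ≫ P'.φ = P.φ ∧ t ≫ f = t' := by
  have hm : ∀ {T : Over S} (u : T ⟶ P.P) (l : T ⟶ C), u ≫ P.m = l ≫ c → u ≫ P.m = (l ≫ t) ≫ P.m :=
    fun u l e => by rw [Category.assoc, ht, e]
  obtain ⟨f, hf⟩ := hc.exists_desc P.m
    (fun {T} u l e => lift (P.div u (l ≫ t) (hm u l e)) (l ≫ t') ≫ P'.act.act)
    (fun {T T'} v u l e e' => by
      rw [comp_lift_assoc, P.comp_div]
      simp only [Category.assoc])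
    (fun {T} u l τ e e' => by
      obtain ⟨a, ha, ha'⟩ := hτ τ
      have hd : P.div u ((l ≫ gal τ) ≫ t) (hm u _ e') = P.div u (l ≫ t) (hm u l e) * (l ≫ a) := by
        refine P.div_eq _ ?_
        rw [act_mul, Category.assoc, ← comp_lift_assoc, ha]
        exact P.div_spec _ _ _
      show lift (P.div u ((l ≫ gal τ) ≫ t) _) ((l ≫ gal τ) ≫ t') ≫ P'.act.act = _
      rw [hd, act_mul, Category.assoc, ← comp_lift_assoc, ha'])
  refine ⟨f, ?_, ?_, ?_, ?_⟩
  · refine hc.hom_ext P.m fun {T} u l e => ?_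
    rw [← Category.assoc, hf u l e, P'.act_m, Category.assoc, ht', e]
  · refine hc.hom_ext (snd G P.P ≫ P.m) fun {T} u l e => ?_
    have e₁ : (u ≫ P.act.act) ≫ P.m = l ≫ c := by rw [Category.assoc, P.cart.w]; exact e
    have e₂ : (u ≫ snd G P.P) ≫ P.m = l ≫ c := by rw [Category.assoc]; exact e
    have hu : lift (u ≫ fst G P.P) (u ≫ snd G P.P) = u := by
      rw [← comp_lift, lift_fst_snd, Category.comp_id]
    have hw : u ≫ (G ◁ f) = lift (u ≫ fst G P.P) ((u ≫ snd G P.P) ≫ f) := by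
      rw [← lift_whiskerLeft, hu]
    have hd : P.div (u ≫ P.act.act) (l ≫ t) (hm _ l e₁) =
        (u ≫ fst G P.P) * P.div (u ≫ snd G P.P) (l ≫ t) (hm _ l e₂) := by
      refine P.div_eq _ ?_
      rw [act_mul, P.div_spec, reassoc_of% hu]
    have h₂ : u ≫ snd G P.P ≫ f = lift (P.div (u ≫ snd G P.P) (l ≫ t) (hm _ l e₂)) (l ≫ t') ≫ P'.act.act :=
      (Category.assoc _ _ _).symm.trans (hf _ l e₂)
    rw [← Category.assoc, hf _ l e₁, hd, act_mul, reassoc_of% hw, h₂]
  · refine hc.hom_ext P.m fun {T} u l e => ?_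
    rw [← Category.assoc, hf u l e, P'.act_φ, Category.assoc, ← hφ, ← Category.assoc, ← P.act_φ, P.div_spec]
  · have e : t ≫ P.m = 𝟙 C ≫ c := by rw [ht, Category.id_comp]
    rw [hf t (𝟙 C) e, P.div_eq (g := 1) _ (by rw [AlgGrpBasic19.act_one, Category.id_comp]),
      AlgGrpBasic19.act_one, Category.id_comp]

/-- Equivariant maps over the base agreeing on a point of the cover are equal. -/
theorem map_ext (hc : IsGalCover c gal) (P P' : Tors aX B) (t : C ⟶ P.P) (ht : t ≫ P.m = c)
    {f g : P.P ⟶ P'.P} (hf : P.act.act ≫ f = (G ◁ f) ≫ P'.act.act)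
    (hg : P.act.act ≫ g = (G ◁ g) ≫ P'.act.act) (h : t ≫ f = t ≫ g) : f = g := by
  refine hc.hom_ext P.m fun {T} u l e => ?_
  have e' : u ≫ P.m = (l ≫ t) ≫ P.m := by rw [Category.assoc, ht, e]
  rw [← P.div_spec u (l ≫ t) e', Category.assoc, Category.assoc, hf, hg, lift_whiskerLeft_assoc,
    lift_whiskerLeft_assoc, Category.assoc, Category.assoc, h]

/-- An equivariant map over the base between torsors with a point is an isomorphism. -/
theorem isIso_map (hc : IsGalCover c gal) (P P' : Tors aX B) (t : C ⟶ P.P) (ht : t ≫ P.m = c)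
    (f : P.P ⟶ P'.P) (hfm : f ≫ P'.m = P.m) (hf : P.act.act ≫ f = (G ◁ f) ≫ P'.act.act)
    (hfφ : f ≫ P'.φ = P.φ) : IsIso f := by
  obtain ⟨g, -, hge, -, hgt⟩ := exists_map hc P' P (t ≫ f) t (by rw [Category.assoc, hfm, ht]) ht (fun τ => by
    have e : t ≫ P.m = (gal τ ≫ t) ≫ P.m := by rw [Category.assoc, ht, hc.gal_c]
    refine ⟨P.div t (gal τ ≫ t) e, ?_, P.div_spec _ _ _⟩
    have h := congrArg (· ≫ f) (P.div_spec t (gal τ ≫ t) e)
    rw [Category.assoc, hf, lift_whiskerLeft_assoc, Category.assoc] at h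
    exact h) (by rw [Category.assoc, hfφ])
  refine ⟨g, map_ext hc P P t ht ?_ (by simp) ?_, map_ext hc P' P' (t ≫ f) ?_ ?_ (by simp) ?_⟩
  · rw [← Category.assoc, hf, Category.assoc, hge, whiskerLeft_comp_assoc]
  · rw [Category.comp_id, ← Category.assoc, hgt]
  · rw [Category.assoc, hfm, ht]
  · rw [← Category.assoc, hge, Category.assoc, hf, whiskerLeft_comp_assoc]
  · rw [Category.comp_id, ← Category.assoc, hgt]

/-- A morphism of the quotient category from torsors with the same cocycle and the same image. -/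
theorem exists_quotHom (hc : IsGalCover c gal) {K : Precoverage Scheme.{u}} (A A' : AlgSt.QuotObj K G aX)
    (h : A.base = B) (h' : A'.base = B) (t : C ⟶ A.P) (t' : C ⟶ A'.P) (ht : t ≫ A.π ≫ eqToHom h = c)
    (ht' : t' ≫ A'.π ≫ eqToHom h' = c)
    (hτ : ∀ τ : Γ, ∃ a : C ⟶ G, lift a (gal τ ≫ t) ≫ A.act.act = t ∧ lift a (gal τ ≫ t') ≫ A'.act.act = t')
    (hφ : t ≫ A.φ = t' ≫ A'.φ) :
    ∃ q : A ⟶ A', q.base = eqToHom (h.trans h'.symm) ∧ t ≫ q.top = t' := by
  obtain ⟨f, hfm, hfe, hfφ, hft⟩ := exists_map hc (Tors.ofObj A h) (Tors.ofObj A' h') t t' ht ht' hτ hφ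
  haveI := isIso_map hc (Tors.ofObj A h) (Tors.ofObj A' h') t ht f hfm hfe hfφ
  have hb : f ≫ A'.π = A.π ≫ eqToHom (h.trans h'.symm) := by
    rw [← cancel_mono (eqToHom h')]
    simpa [Tors.ofObj] using hfm
  exact ⟨{ base := eqToHom (h.trans h'.symm), top := f, eqv := hfe,
           cart := IsPullback.of_horiz_isIso ⟨hb⟩, wφ := hfφ }, rfl, hft⟩

/-- A cocycle is realised by a torsor, given the quotient of the trivial torsor over the cover. -/
theorem exists_tors (hc : IsGalCover c gal) (z : Γ → (C ⟶ G))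
    (Y : Over S) (q : G ⊗ C ⟶ Y) (m : Y ⟶ B) (sq : IsPullback q (snd G C) m c)
    (hq : ∀ τ, lift (fst G C * (snd G C ≫ z τ)) (snd G C ≫ gal τ) ≫ q = q)
    (x : C ⟶ X) (hx : ∀ τ, lift (z τ) (gal τ ≫ x) ≫ aX.act = x) :
    ∃ (P : Tors aX B) (_ : P.P = Y) (t : C ⟶ P.P), t ≫ P.m = c ∧
      (∀ τ, lift (z τ) (gal τ ≫ t) ≫ P.act.act = t) ∧ t ≫ P.φ = x := by
  let e : ∀ {T : Over S} (u : T ⟶ Y) (l : T ⟶ C), u ≫ m = l ≫ c → (T ⟶ G) :=
    fun u l h => sq.lift u l h ≫ fst G C
  have he : ∀ {T : Over S} (u : T ⟶ Y) (l : T ⟶ C) (h : u ≫ m = l ≫ c), lift (e u l h) l ≫ q = u := by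
    intro T u l h
    have : lift (e u l h) l = sq.lift u l h := by
      apply CartesianMonoidalCategory.hom_ext
      · rw [lift_fst]
      · rw [lift_snd, sq.lift_snd]
    rw [this, sq.lift_fst]
  have he_eq : ∀ {T : Over S} {u : T ⟶ Y} {l : T ⟶ C} (h : u ≫ m = l ≫ c) {g : T ⟶ G},
      lift g l ≫ q = u → e u l h = g := by
    intro T u l h g hg
    have : lift (e u l h) l = lift g l := sq.hom_ext ((he u l h).trans hg.symm) (by rw [lift_snd, lift_snd])
    simpa using congrArg (· ≫ fst G C) this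
  have he_nat : ∀ {T T' : Over S} (v : T' ⟶ T) (u : T ⟶ Y) (l : T ⟶ C) (h : u ≫ m = l ≫ c)
      (h' : (v ≫ u) ≫ m = (v ≫ l) ≫ c), v ≫ e u l h = e (v ≫ u) (v ≫ l) h' := by
    intro T T' v u l h h'
    exact (he_eq h' (by rw [← comp_lift, Category.assoc, he])).symm
  have hrot : ∀ {T : Over S} (g : T ⟶ G) (l : T ⟶ C) (τ : Γ),
      lift (g * (l ≫ z τ)) (l ≫ gal τ) ≫ q = lift g l ≫ q := by
    intro T g l τ
    have := congrArg (lift g l ≫ ·) (hq τ)
    simpa only [comp_lift_assoc, comp_mul, lift_fst, lift_snd_assoc] using this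
  have hr_eq : ∀ {T : Over S} (u : T ⟶ Y) (l : T ⟶ C) (τ : Γ) (h : u ≫ m = l ≫ c)
      (h' : u ≫ m = (l ≫ gal τ) ≫ c), e u (l ≫ gal τ) h' = e u l h * (l ≫ z τ) := by
    intro T u l τ h h'
    exact he_eq h' ((hrot _ l τ).trans (he u l h))
  obtain ⟨a, ha⟩ := hc.exists_desc (snd G Y ≫ m)
    (fun {T} u l h => lift ((u ≫ fst G Y) * e (u ≫ snd G Y) l (by rw [Category.assoc, h])) l ≫ q)
    (fun {T T'} v u l h h' => by
      rw [comp_lift_assoc, comp_mul, he_nat v _ _ _ (by simp [reassoc_of% h, h])]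
      simp only [Category.assoc])
    (fun {T} u l τ h h' => by
      show lift (_ * e _ (l ≫ gal τ) _) (l ≫ gal τ) ≫ q = _
      rw [hr_eq _ l τ (by rw [Category.assoc, h]), ← _root_.mul_assoc, hrot])
  have ha' : ∀ {T : Over S} (g g₀ : T ⟶ G) (l : T ⟶ C),
      lift g (lift g₀ l ≫ q) ≫ a = lift (g * g₀) l ≫ q := by
    intro T g g₀ l
    have h : lift g (lift g₀ l ≫ q) ≫ snd G Y ≫ m = l ≫ c := by
      rw [lift_snd_assoc, Category.assoc, sq.w, lift_snd_assoc]
    rw [ha _ l h, lift_fst, he_eq (g := g₀) _ (by rw [lift_snd])]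
  have htriv : ∀ {T : Over S} (u : T ⟶ Y) (l : T ⟶ C), u ≫ m = l ≫ c → ∃ g : T ⟶ G, lift g l ≫ q = u :=
    fun u l h => ⟨e u l h, he u l h⟩
  let act : AlgGrp.Action G Y :=
    { act := a
      one_act := by
        refine hc.hom_ext ((λ_ Y).hom ≫ m) fun {T} u l h => ?_
        have hy : (u ≫ snd _ Y) ≫ m = l ≫ c := by rw [Category.assoc]; exact h
        obtain ⟨g, hg⟩ := htriv _ l hy
        have h1 : u ≫ (η[G] ▷ Y) = lift (1 : T ⟶ G) (u ≫ snd _ Y) := by
          apply CartesianMonoidalCategory.hom_ext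
          · simp [Hom.one_def]
            rw [← Category.assoc, toUnit_unique (u ≫ fst _ _) (toUnit T)]
          · simp
        rw [reassoc_of% h1, ← hg, ha', _root_.one_mul, hg, leftUnitor_hom]
      mul_act := by
        refine hc.hom_ext (snd (G ⊗ G) Y ≫ m) fun {T} u l h => ?_
        have hy : (u ≫ snd _ Y) ≫ m = l ≫ c := by rw [Category.assoc]; exact h
        obtain ⟨g, hg⟩ := htriv _ l hy
        have h1 : u ≫ (μ[G] ▷ Y) = lift ((u ≫ fst _ _ ≫ fst G G) * (u ≫ fst _ _ ≫ snd G G)) (u ≫ snd _ Y) := by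
          apply CartesianMonoidalCategory.hom_ext
          · simp [Hom.mul_def]
            rw [← Category.assoc]
            congr 1
            apply CartesianMonoidalCategory.hom_ext <;> simp
          · simp
        have h2 : u ≫ (α_ G G Y).hom ≫ (G ◁ a) =
            lift (u ≫ fst _ _ ≫ fst G G) (lift (u ≫ fst _ _ ≫ snd G G) (u ≫ snd _ Y) ≫ a) := by
          apply CartesianMonoidalCategory.hom_ext
          · simp
          · rw [lift_snd]
            simp only [Category.assoc, whiskerLeft_snd]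
            rw [← Category.assoc, ← Category.assoc]
            congr 1
            apply CartesianMonoidalCategory.hom_ext <;> simp
        rw [reassoc_of% h1, reassoc_of% h2, ← hg, ha', ha', ha', _root_.mul_assoc] }
  have hcart : IsPullback a (snd G Y) m m := by
    have hw : a ≫ m = snd G Y ≫ m := by
      refine hc.hom_ext (snd G Y ≫ m) fun {T} u l h => ?_
      rw [← Category.assoc, ha u l h, Category.assoc, sq.w, lift_snd_assoc, h]
    obtain ⟨d, hd⟩ := hc.exists_desc (pullback.fst m m ≫ m)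
      (fun {T} u l h => e (u ≫ pullback.fst m m) l (by rw [Category.assoc, h]) *
        (e (u ≫ pullback.snd m m) l (by rw [Category.assoc, ← Limits.pullback.condition, h]))⁻¹)
      (fun {T T'} v u l h h' => by
        rw [comp_mul, GrpObj.comp_inv, he_nat v _ _ _ (by simp [reassoc_of% h, h]),
          he_nat v _ _ _ (by simp [← Limits.pullback.condition, reassoc_of% h, h])]
        simp only [Category.assoc])
      (fun {T} u l τ h h' => by
        show e _ (l ≫ gal τ) _ * (e _ (l ≫ gal τ) _)⁻¹ = _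
        rw [hr_eq _ l τ (by rw [Category.assoc, h]),
          hr_eq _ l τ (by rw [Category.assoc, ← Limits.pullback.condition, h])]
        group)
    let inv₀ : pullback m m ⟶ G ⊗ Y := lift d (pullback.snd m m)
    let hom₀ : G ⊗ Y ⟶ pullback m m := pullback.lift a (snd G Y) hw
    haveI : IsIso hom₀ := by
      refine ⟨inv₀, ?_, ?_⟩
      · refine hc.hom_ext (snd G Y ≫ m) fun {T} u l h => ?_
        have hy : (u ≫ snd G Y) ≫ m = l ≫ c := by rw [Category.assoc]; exact h
        obtain ⟨g, hg⟩ := htriv _ l hy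
        have hu : u = lift (u ≫ fst G Y) (lift g l ≫ q) := by
          rw [hg, ← comp_lift, lift_fst_snd, Category.comp_id]
        apply CartesianMonoidalCategory.hom_ext
        · have h' : (u ≫ hom₀) ≫ pullback.fst m m ≫ m = l ≫ c := by
            simp only [hom₀, Category.assoc, Limits.pullback.lift_fst_assoc]
            rw [hw]; exact h
          simp only [inv₀, Category.assoc, lift_fst, Category.id_comp]
          rw [← Category.assoc, hd _ l h', he_eq (g := (u ≫ fst G Y) * g) _ (by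
            simp only [hom₀, Category.assoc, Limits.pullback.lift_fst]
            rw [← ha', ← hu]),
            he_eq (g := g) _ (by simp only [hom₀, Category.assoc, Limits.pullback.lift_snd]; exact hg)]
          group
        · simp [inv₀, hom₀]
      · refine hc.hom_ext (pullback.fst m m ≫ m) fun {T} u l h => ?_
        apply Limits.pullback.hom_ext
        · have h1 : (u ≫ pullback.fst m m) ≫ m = l ≫ c := by rw [Category.assoc, h]
          have h2 : (u ≫ pullback.snd m m) ≫ m = l ≫ c := by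
            rw [Category.assoc, ← Limits.pullback.condition, h]
          simp only [inv₀, hom₀, Category.assoc, Limits.pullback.lift_fst, Category.id_comp]
          rw [← Category.assoc, comp_lift, hd u l h]
          have h3 := ha' (e (u ≫ pullback.fst m m) l h1 * (e (u ≫ pullback.snd m m) l h2)⁻¹)
            (e (u ≫ pullback.snd m m) l h2) l
          rw [inv_mul_cancel_right, he _ l h1, he _ l h2] at h3
          exact h3
        · simp [inv₀, hom₀]
    exact IsPullback.of_iso_pullback ⟨hw⟩ (asIso hom₀) (Limits.pullback.lift_fst _ _ _)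
      (Limits.pullback.lift_snd _ _ _)
  obtain ⟨φ, hφ⟩ := hc.exists_desc m (fun {T} u l h => lift (e u l h) (l ≫ x) ≫ aX.act)
    (fun {T T'} v u l h h' => by
      rw [comp_lift_assoc, he_nat v u l h h']
      simp only [Category.assoc])
    (fun {T} u l τ h h' => by
      show lift (e u (l ≫ gal τ) _) ((l ≫ gal τ) ≫ x) ≫ aX.act = _
      rw [hr_eq u l τ h, act_mul, Category.assoc, ← comp_lift_assoc, hx])
  have hφ' : ∀ {T : Over S} (g : T ⟶ G) (l : T ⟶ C), (lift g l ≫ q) ≫ φ = lift g (l ≫ x) ≫ aX.act := by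
    intro T g l
    have h : (lift g l ≫ q) ≫ m = l ≫ c := by rw [Category.assoc, sq.w, lift_snd_assoc]
    rw [hφ _ l h, he_eq (g := g) _ rfl]
  let P : Tors aX B :=
    { P := Y, act := act, m := m, cart := hcart, φ := φ
      eqv := by
        show a ≫ φ = _
        refine hc.hom_ext (snd G Y ≫ m) fun {T} u l h => ?_
        obtain ⟨g, hg⟩ := htriv (u ≫ snd G Y) l (by rw [Category.assoc]; exact h)
        have hu : u = lift (u ≫ fst G Y) (lift g l ≫ q) := by
          rw [hg, ← comp_lift, lift_fst_snd, Category.comp_id]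
        rw [hu, ← Category.assoc, ha', hφ', lift_whiskerLeft_assoc, hφ', ← act_mul] }
  refine ⟨P, rfl, lift 1 (𝟙 C) ≫ q, ?_, fun τ => ?_, ?_⟩
  · rw [Category.assoc, show q ≫ P.m = snd G C ≫ c from sq.w, lift_snd_assoc, Category.id_comp]
  · show lift (z τ) (gal τ ≫ lift 1 (𝟙 C) ≫ q) ≫ a = lift 1 (𝟙 C) ≫ q
    rw [comp_lift_assoc, comp_one, Category.comp_id, ha', _root_.mul_one]
    have := hrot 1 (𝟙 C) τ
    rwa [_root_.one_mul, Category.id_comp, Category.id_comp] at this
  · rw [show P.φ = φ from rfl, hφ', Category.id_comp, AlgGrpBasic19.act_one]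

end Groth.Agent.StackGal23
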