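import Groth.Agent.Lib.StackGal23.Class
import Groth.Agent.Lib.Zeta25.PointCount
import Groth.Prelude.Def_GalTw2
import Mathlib.AlgebraicGeometry.Morphisms.LocalFlatDescent

/-!
# Rational points of Galois twists as fixed points of twisted actions
-/

set_option autoImplicit false
set_option linter.style.haveILetI false
set_option linter.unusedSectionVars false
set_option backward.isDefEq.respectTransparency false
set_option backward.isDefEq.respectTransparency.types false
universe u

open CategoryTheory MonoidalCategory CartesianMonoidalCategory MonObj GrpObj AlgebraicGeometry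
open Limits (pullback)

namespace Groth.Agent.StackGal23

variable {k : Type u} [Field k] (kb : Type u) [Field kb] [Algebra k kb]
  {G X Y : Over (Spec (CommRingCat.of k))}

/-- The canonical point of the terminal object of the base change. -/
noncomputable def unitPt :
    (Over.map (SGA7.pt (K := k) kb).hom).obj (𝟙_ (Over (Spec (CommRingCat.of kb)))) ⟶ SGA7.pt (K := k) kb :=
  Over.homMk (𝟙 (Spec (CommRingCat.of kb))) (by
    show 𝟙 _ ≫ _ = 𝟙 _ ≫ _
    rfl)

theorem secOfPt_eq (g : SGA7.Pts kb X) :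
    GalTw.secOfPt kb g =
      (Over.mapPullbackAdj (SGA7.pt (K := k) kb).hom).homEquiv _ X (unitPt kb ≫ g) := by
  apply Over.OverMorphism.ext
  rw [Adjunction.homEquiv_unit]
  apply pullback.hom_ext <;> simp [unitPt] <;> rfl

/-- Adjunction for base change is multiplicative. -/
theorem bcHomEquiv_mul {S S' : Scheme.{u}} (ψ : S' ⟶ S) {G : Over S} [GrpObj G] (A : Over S')
    (a b : (Over.map ψ).obj A ⟶ G) :
    (Over.mapPullbackAdj ψ).homEquiv A G (a * b) =
      (Over.mapPullbackAdj ψ).homEquiv A G a * (Over.mapPullbackAdj ψ).homEquiv A G b := by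
  simp only [(Over.mapPullbackAdj ψ).homEquiv_unit]
  rw [← MonObj.comp_mul]
  congr 1
  exact Functor.map_mul (Over.pullback ψ) a b

theorem secOfPt_mul [GrpObj G] (g h : SGA7.Pts kb G) :
    GalTw.secOfPt kb (g * h) = GalTw.secOfPt kb g * GalTw.secOfPt kb h := by
  rw [secOfPt_eq, secOfPt_eq, secOfPt_eq, MonObj.comp_mul]
  exact bcHomEquiv_mul _ _ _ _

/-- Points with values in a field as sections of the base change. -/
noncomputable def secEquiv (X : Over (Spec (CommRingCat.of k))) :
    SGA7.Pts kb X ≃ (𝟙_ (Over (Spec (CommRingCat.of kb))) ⟶ GalTw.bcK kb X) where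
  toFun g := GalTw.secOfPt kb g
  invFun s := Over.homMk (s.left ≫ pullback.fst _ _) (by
    rw [Category.assoc, pullback.condition]
    exact (congrArg (· ≫ (SGA7.pt (K := k) kb).hom) (Over.w s)).trans (Category.id_comp _)
      |> (Category.assoc _ _ _).symm.trans)
  left_inv g := by
    apply Over.OverMorphism.ext
    exact pullback.lift_fst _ _ _
  right_inv s := by
    apply Over.OverMorphism.ext
    apply pullback.hom_ext
    · exact pullback.lift_fst _ _ _
    · exact (pullback.lift_snd _ _ _).trans (Over.w s).symm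

@[simp] theorem secEquiv_apply (g : SGA7.Pts kb X) : secEquiv kb X g = GalTw.secOfPt kb g := rfl

theorem secOfPt_inv [GrpObj G] (g : SGA7.Pts kb G) :
    GalTw.secOfPt kb g⁻¹ = (GalTw.secOfPt kb g)⁻¹ := by
  have h1 : GalTw.secOfPt kb (1 : SGA7.Pts kb G) = 1 := by
    have h := secOfPt_mul kb (1 : SGA7.Pts kb G) 1
    rw [_root_.one_mul] at h
    exact mul_eq_left.1 h.symm
  refine eq_inv_of_mul_eq_one_left ?_
  rw [← secOfPt_mul, inv_mul_cancel, h1]

/-- Galois conjugation of sections. -/
theorem secOfPt_smul_left (σ : kb ≃ₐ[k] kb) (x : SGA7.Pts kb X) :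
    (GalTw.secOfPt kb (σ • x)).left =
      GalTw.specMap kb σ ≫ (GalTw.secOfPt kb x).left ≫ GalTw.galMap kb σ⁻¹ X := by
  apply pullback.hom_ext
  · simp only [GalTw.secOfPt_left, Category.assoc, pullback.lift_fst, GalTw.galMap_fst]
    rfl
  · simp only [GalTw.secOfPt_left, Category.assoc, pullback.lift_snd, GalTw.galMap_snd,
      pullback.lift_snd_assoc]
    erw [Category.id_comp]
    rw [← GalTw.specMap_mul, mul_inv_cancel, GalTw.specMap_one]
    rfl

theorem secOfPt_smul_twHom (σ : kb ≃ₐ[k] kb) (f : GalTw.bcK kb Y ⟶ GalTw.bcK kb X) {u : SGA7.Pts kb Y}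
    {w : SGA7.Pts kb X} (h : GalTw.secOfPt kb u ≫ f = GalTw.secOfPt kb w) :
    GalTw.secOfPt kb (σ • u) ≫ GalTw.twHom σ f = GalTw.secOfPt kb (σ • w) := by
  apply Over.OverMorphism.ext
  rw [Over.comp_left, secOfPt_smul_left, secOfPt_smul_left, ← h, Over.comp_left, GalTw.twHom_left]
  simp only [Category.assoc, GalTw.galMap_mul_assoc, inv_mul_cancel, GalTw.galMap_one, Category.id_comp]

theorem secOfPt_actK [GrpObj G] (aX : AlgGrp.Action G X) (g : SGA7.Pts kb G) (w : SGA7.Pts kb X) :
    GalTw.secOfPt kb w ≫ GalTw.actK kb aX g = GalTw.secOfPt kb (lift g w ≫ aX.act) := by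
  have e : lift w (𝟙 (SGA7.pt (K := k) kb)) ≫
      lift (snd X (SGA7.pt (K := k) kb) ≫ g) (fst X (SGA7.pt (K := k) kb)) ≫ aX.act = lift g w ≫ aX.act := by
    rw [comp_lift_assoc, lift_fst, lift_snd_assoc, Category.id_comp]
  have e' : (GalTw.secOfPt kb w).left = (lift w (𝟙 (SGA7.pt (K := k) kb))).left := by
    simp [Over.lift_left]
  apply Over.OverMorphism.ext
  apply pullback.hom_ext
  · simp only [Over.comp_left, GalTw.actK, Over.homMk_left, Category.assoc, pullback.lift_fst,
      GalTw.secOfPt_left (g := lift g w ≫ aX.act)]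
    rw [e']
    exact congrArg CommaMorphism.left e
  · exact (Over.w _).trans (Over.w _).symm

theorem secOfPt_innK [GrpObj G] (g w : SGA7.Pts kb G) :
    GalTw.secOfPt kb w ≫ GalTw.innK kb g = GalTw.secOfPt kb (g * w * g⁻¹) := by
  have e : GalTw.secOfPt kb w ≫ toUnit (GalTw.bcK kb G) ≫ GalTw.secOfPt kb g = GalTw.secOfPt kb g := by
    rw [← Category.assoc, toUnit_unique (GalTw.secOfPt kb w ≫ toUnit _) (𝟙 _), Category.id_comp]
  rw [GalTw.innK, MonObj.comp_mul, MonObj.comp_mul, GrpObj.comp_inv, e, Category.comp_id,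
    secOfPt_mul, secOfPt_mul, secOfPt_inv]

section Transport

variable {kb} (φ : GalTw.bcK kb Y ≅ GalTw.bcK kb X)

/-- The bijection of points given by a trivialisation. -/
noncomputable def transport : SGA7.Pts kb Y ≃ SGA7.Pts kb X :=
  (secEquiv kb Y).trans (φ.homToEquiv.trans (secEquiv kb X).symm)

theorem secOfPt_transport (u : SGA7.Pts kb Y) :
    GalTw.secOfPt kb (transport φ u) = GalTw.secOfPt kb u ≫ φ.hom :=
  (secEquiv kb X).apply_symm_apply _

theorem transport_smul (σ : kb ≃ₐ[k] kb) (u : SGA7.Pts kb Y) :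
    GalTw.secOfPt kb (transport φ (σ • u)) =
      GalTw.secOfPt kb (σ • transport φ u) ≫ (GalTw.cocycle φ σ).hom := by
  rw [GalTw.cocycle_apply_hom, ← secOfPt_smul_twHom kb σ φ.hom (secOfPt_transport φ u).symm,
    secOfPt_transport, Category.assoc, ← GalTw.twIso_hom, Iso.hom_inv_id_assoc]

theorem transport_smul_of_act [GrpObj G] (aX : AlgGrp.Action G X) {σ : kb ≃ₐ[k] kb} {g : SGA7.Pts kb G}
    (h : (GalTw.cocycle φ σ).hom = GalTw.actK kb aX g) (u : SGA7.Pts kb Y) :
    transport φ (σ • u) = lift g (σ • transport φ u) ≫ aX.act := by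
  apply (secEquiv kb X).injective
  rw [secEquiv_apply, secEquiv_apply, transport_smul, h, secOfPt_actK]

theorem transport_smul_of_inn [GrpObj X] {σ : kb ≃ₐ[k] kb} {g : SGA7.Pts kb X}
    (h : (GalTw.cocycle φ σ).hom = GalTw.innK kb g) (u : SGA7.Pts kb Y) :
    transport φ (σ • u) = g * (σ • transport φ u) * g⁻¹ := by
  apply (secEquiv kb X).injective
  rw [secEquiv_apply, secEquiv_apply, transport_smul, h, secOfPt_innK]

end Transport

section Descent

variable [IsAlgClosure k kb]

theorem locallyOfFiniteType_of_bc (φ : GalTw.bcK kb Y ≅ GalTw.bcK kb X) [LocallyOfFiniteType X.hom] :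
    LocallyOfFiniteType Y.hom := by
  have e : φ.hom.left ≫ pullback.snd X.hom (SGA7.pt (K := k) kb).hom =
      pullback.snd Y.hom (SGA7.pt (K := k) kb).hom := Over.w φ.hom
  have h : LocallyOfFiniteType (pullback.snd Y.hom (SGA7.pt (K := k) kb).hom) := by
    rw [← e]
    infer_instance
  haveI : Nonempty ↥(SGA7.pt (K := k) kb).left := inferInstanceAs (Nonempty (PrimeSpectrum kb))
  refine MorphismProperty.of_pullback_snd_of_descendsAlong (P := @LocallyOfFiniteType)
    (Q := @Surjective ⊓ @Flat ⊓ @QuasiCompact) ⟨⟨?_, ?_⟩, inferInstanceAs (QuasiCompact (Spec.map _))⟩ h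
  · exact ⟨Function.surjective_to_subsingleton (β := PrimeSpectrum k) _⟩
  · exact (HasRingHomProperty.Spec_iff (P := @Flat)).2
      (RingHom.flat_algebraMap_iff.2 (inferInstance : Module.Flat k kb))

theorem quasiCompact_of_bc (φ : GalTw.bcK kb Y ≅ GalTw.bcK kb X) [QuasiCompact X.hom] :
    QuasiCompact Y.hom := by
  haveI : Nonempty ↥(SGA7.pt (K := k) kb).left := inferInstanceAs (Nonempty (PrimeSpectrum kb))
  haveI : IsAffine (SGA7.pt (K := k) kb).left := inferInstanceAs (IsAffine (Spec _))
  haveI : Surjective (SGA7.pt (K := k) kb).hom :=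
    ⟨Function.surjective_to_subsingleton (β := PrimeSpectrum k) _⟩
  haveI : CompactSpace ↥(GalTw.bcK kb X).left :=
    (HasAffineProperty.iff_of_isAffine (P := @QuasiCompact)
      (f := pullback.snd X.hom (SGA7.pt (K := k) kb).hom)).1 inferInstance
  haveI : Surjective (φ.inv.left ≫ pullback.fst Y.hom (SGA7.pt (K := k) kb).hom) := by
    haveI : Surjective φ.inv.left := inferInstance
    exact inferInstance
  haveI : CompactSpace Y.left :=
    (φ.inv.left ≫ pullback.fst Y.hom (SGA7.pt (K := k) kb).hom).surjective.compactSpace (by fun_prop)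
  exact (HasAffineProperty.iff_of_isAffine (P := @QuasiCompact) (f := Y.hom)).2 inferInstance

variable [Finite k]

theorem finite_pts_self (Y : Over (Spec (CommRingCat.of k))) [LocallyOfFiniteType Y.hom]
    [QuasiCompact Y.hom] : Finite (SGA7.Pts k Y) := by
  haveI : Finite ((SGA7.pt (K := k) k).left ⟶ Y.left) := Zeta25.finite_points Y.hom k
  exact Finite.of_injective (fun f => f.left) fun _ _ h => Over.OverMorphism.ext h

/-- Rational points of a twist through an action are the fixed points of the twisted action. -/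
theorem exists_twist_equiv [GrpObj G] [LocallyOfFiniteType X.hom] [QuasiCompact X.hom] {aX : AlgGrp.Action G X}
    {z : GpH1.OneCocycle (kb ≃ₐ[k] kb) (SGA7.Pts kb G)} (h : GalTw.IsActTwist kb aX z Y) :
    Nonempty (SGA7.Pts k Y ≃ Fix (k' := k) kb aX (fun σ => z σ)) ∧ Finite (SGA7.Pts k Y) := by
  obtain ⟨φ, hφ⟩ := h
  haveI := locallyOfFiniteType_of_bc kb φ
  haveI := quasiCompact_of_bc kb φ
  refine ⟨⟨(ptsEquiv (k' := k) (kb := kb) Y).trans ((transport φ).subtypeEquiv fun u => ?_)⟩,
    finite_pts_self Y⟩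
  refine forall_congr' fun σ => ?_
  rw [← smul_eq, ← smul_eq, ← transport_smul_of_act φ aX (hφ σ)]
  exact (transport φ).injective.eq_iff.symm

/-- Rational points of an inner twist are the fixed subgroup. -/
theorem exists_inn_equiv [GrpObj X] [LocallyOfFiniteType X.hom] [QuasiCompact X.hom] [GrpObj Y]
    {z : GpH1.OneCocycle (kb ≃ₐ[k] kb) (SGA7.Pts kb X)} (h : GalTw.IsInnTwist kb X z Y) :
    Nonempty (SGA7.Pts k Y ≃ innFix (k' := k) kb (fun σ => z σ)) ∧ Finite (SGA7.Pts k Y) := by
  obtain ⟨φ, -, hφ⟩ := h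
  haveI := locallyOfFiniteType_of_bc kb φ
  haveI := quasiCompact_of_bc kb φ
  refine ⟨⟨(ptsEquiv (k' := k) (kb := kb) Y).trans ((transport φ).subtypeEquiv fun u => ?_)⟩,
    finite_pts_self Y⟩
  refine forall_congr' fun σ => ?_
  rw [← smul_eq, ← smul_eq, ← transport_smul_of_inn φ (hφ σ)]
  exact (transport φ).injective.eq_iff.symm

end Descent

end Groth.Agent.StackGal23
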